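import Groth.Agent.QuillenLib.Desc

/-!
# Changing the base by an isomorphism
-/

universe u

open CategoryTheory CategoryTheory.Limits MonoidalCategory CartesianMonoidalCategory MonObj GrpObj AlgebraicGeometry

noncomputable section

set_option backward.isDefEq.respectTransparency false
set_option backward.isDefEq.respectTransparency.types false

namespace Groth.Agent.QuillenLib

variable {S S' : Scheme.{u}} {G H X X' : Over S} [GrpObj G] [GrpObj H]

theorem bc_hom_ext (f : S' ⟶ S) {W : Over S'} {Y : Over S} {m m' : W ⟶ Red.bc f Y}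
    (h : m.left ≫ pullback.fst Y.hom f = m'.left ≫ pullback.fst Y.hom f) : m = m' :=
  Over.OverMorphism.ext (pullback.hom_ext h ((Over.w m).trans (Over.w m').symm))

@[reassoc]
theorem bcCompIso_inv_left {S'' : Scheme.{u}} (f : S'' ⟶ S') (g : S' ⟶ S) {d : S'' ⟶ S} (h : f ≫ g = d) (Y : Over S) :
    (ActBC.bcCompIso f g Y h).inv.left ≫ pullback.fst _ f ≫ pullback.fst Y.hom g = pullback.fst Y.hom d := by
  rw [← ActBC.bcCompIso_hom_left_fst f g Y h, ← Category.assoc, ← Over.comp_left, Iso.inv_hom_id]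
  exact Category.id_comp _

/-- An equivariant isomorphism stays one after restricting the group. -/
def restrictIso {a : AlgGrp.Action G X} {a' : AlgGrp.Action G X'} (e : NonAbH1.EquivIso a a') (φ : H ⟶ G)
    [IsMonHom φ] : NonAbH1.EquivIso (a.restrict φ) (a'.restrict φ) where
  iso := e.iso
  comm := by
    rw [AlgGrp.Action.restrict_act, AlgGrp.Action.restrict_act, Category.assoc, e.comm, ← Category.assoc,
      ← whisker_exchange, Category.assoc]

theorem restrict_restrict {K : Over S} [GrpObj K] (a : AlgGrp.Action G X) (φ : H ⟶ G) (ψ : K ⟶ H) [IsMonHom φ]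
    [IsMonHom ψ] : (a.restrict φ).restrict ψ = a.restrict (ψ ≫ φ) :=
  AlgGrp.Action.ext' (by simp [AlgGrp.Action.restrict_act, comp_whiskerRight])

/-- Base change along the identity. -/
def bcId (Y : Over S) : Red.bc (𝟙 S) Y ≅ Y :=
  haveI : IsIso (pullback.fst Y.hom (𝟙 S)) := inferInstance
  Over.isoMk (asIso (pullback.fst Y.hom (𝟙 S))) (pullback.condition.trans (Category.comp_id _))

omit [GrpObj G] in
theorem bcId_hom_left (Y : Over S) : (bcId Y).hom.left = pullback.fst Y.hom (𝟙 S) := rfl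

theorem bcId_act (a : AlgGrp.Action G X) :
    (a.bc (𝟙 S)).act ≫ (bcId X).hom = ((bcId G).hom ⊗ₘ (bcId X).hom) ≫ a.act := by
  refine Over.OverMorphism.ext ?_
  rw [AlgGrp.Action.bc_act, Category.assoc, Over.comp_left, Over.comp_left, bcId_hom_left,
    ActBC.pullback_map_left_fst, Over.comp_left, ← Category.assoc]
  congr 1
  apply pullback.hom_ext
  · rw [Category.assoc, ActBC.μ_left_fst_fst, ActBC.tensorHom_left_fst', bcId_hom_left]
  · rw [Category.assoc, ActBC.μ_left_fst_snd, ActBC.tensorHom_left_snd', bcId_hom_left]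

instance bcId_isMonHom : IsMonHom (bcId G).hom where
  mul_hom := bcId_act (NonAbH1.trivialAction G)
  one_hom := by
    have hmul := bcId_act (NonAbH1.trivialAction G)
    have h1 : (1 : 𝟙_ (Over S) ⟶ Red.bc (𝟙 S) G) = η := by
      rw [Hom.one_def, toUnit_unique (toUnit _) (𝟙 _), Category.id_comp]
    have h1' : (1 : 𝟙_ (Over S) ⟶ G) = η := by
      rw [Hom.one_def, toUnit_unique (toUnit _) (𝟙 _), Category.id_comp]
    have hx : (η ≫ (bcId G).hom) * (η ≫ (bcId G).hom) = (η ≫ (bcId G).hom) * 1 := by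
      rw [_root_.mul_one, Hom.mul_def, ← lift_map_assoc,
        ← show μ[Red.bc (𝟙 S) G] ≫ (bcId G).hom = ((bcId G).hom ⊗ₘ (bcId G).hom) ≫ μ[G] from hmul,
        ← Category.assoc, ← Hom.mul_def, ← h1, _root_.mul_one]
    rw [← h1']
    exact mul_left_cancel hx

variable {A U T : Scheme.{u}} (e : S ≅ S') {G₀ : Over S} [GrpObj G₀]

/-- The base change to `U` read over the other base. -/
abbrev phi (q : U ⟶ S) : Red.bc (q ≫ e.hom) (Red.bc e.inv G₀) ≅ Red.bc q G₀ :=
  ActBC.bcCompIso (q ≫ e.hom) e.inv G₀ (by rw [Category.assoc, e.hom_inv_id, Category.comp_id])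

theorem bcAct_transport (q : U ⟶ S) (v : T ⟶ U) {d : T ⟶ S} (h : v ≫ q = d) {Z : Over U}
    (α : AlgGrp.Action (Red.bc q G₀) Z) :
    bcAct (q ≫ e.hom) (α.restrict (phi e q).hom) v (show v ≫ q ≫ e.hom = d ≫ e.hom by rw [← Category.assoc, h]) =
      (bcAct q α v h).restrict (phi e d).hom := by
  apply AlgGrp.Action.ext'
  rw [bcAct, AlgGrp.Action.bc_restrict, restrict_restrict, bcAct, restrict_restrict]
  rw [AlgGrp.Action.restrict_act, AlgGrp.Action.restrict_act]
  congr 2
  refine bc_hom_ext v (pullback.hom_ext ?_ ?_)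
  · have p1 := ActBC.pullback_map_left_fst v (phi e (G₀ := G₀) q).hom
    have p2 := ActBC.bcCompIso_hom_left_fst (q ≫ e.hom) e.inv G₀ (d := q)
      (by rw [Category.assoc, e.hom_inv_id, Category.comp_id])
    have p3 := bcCompIso_inv_left v (q ≫ e.hom) (d := d ≫ e.hom) (by rw [← Category.assoc, h]) (Red.bc e.inv G₀)
    have p4 := bcCompIso_inv_left v q h G₀
    have p5 := ActBC.bcCompIso_hom_left_fst (d ≫ e.hom) e.inv G₀ (d := d)
      (by rw [Category.assoc, e.hom_inv_id, Category.comp_id])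
    simp only [Over.comp_left, Category.assoc]
    rw [reassoc_of% p1, p2, reassoc_of% p3, p4, p5]
  · simp only [Category.assoc]
    show _ ≫ pullback.fst _ v ≫ (Red.bc q G₀).hom = _ ≫ pullback.fst _ v ≫ (Red.bc q G₀).hom
    rw [pullback.condition]
    refine (Category.assoc _ _ _).symm.trans (Eq.trans ?_ (Category.assoc _ _ _))
    exact congrArg (· ≫ v) ((Over.w _).trans (Over.w _).symm)

/-- Equivariant isomorphisms of base changes, read over the other base. -/
theorem equivIso_transport (q : U ⟶ S) (a : A ⟶ S) (v : T ⟶ U) (w : T ⟶ A) {d : T ⟶ S} (hv : v ≫ q = d)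
    (hw : w ≫ a = d) {Z : Over U} {Y : Over A} (α : AlgGrp.Action (Red.bc q G₀) Z)
    (β : AlgGrp.Action (Red.bc a G₀) Y) (h : NonAbH1.EquivIso (bcAct q α v hv) (bcAct a β w hw)) :
    Nonempty (NonAbH1.EquivIso
      (bcAct (q ≫ e.hom) (α.restrict (phi e q).hom) v (show v ≫ q ≫ e.hom = d ≫ e.hom by rw [← Category.assoc, hv]))
      (bcAct (a ≫ e.hom) (β.restrict (phi e a).hom) w
        (show w ≫ a ≫ e.hom = d ≫ e.hom by rw [← Category.assoc, hw]))) := by
  rw [bcAct_transport e q v hv α, bcAct_transport e a w hw β]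
  exact ⟨restrictIso h _⟩

/-- A torsor over the other base inducing the given one gives a torsor over the base. -/
theorem exists_back (a : A ⟶ S) {Y : Over A} (β : AlgGrp.Action (Red.bc a G₀) Y)
    (P : NonAbH1.TorsorSch (Red.bc e.hom (Red.bc e.inv G₀)) Scheme.fppfPrecoverage)
    (h : NonAbH1.EquivIso (bcAct e.hom P.act a (rfl : a ≫ e.hom = a ≫ e.hom))
      (bcAct (a ≫ e.hom) (β.restrict (phi e a).hom) (𝟙 A) (Category.id_comp _))) :
    ∃ Q : NonAbH1.TorsorSch G₀ Scheme.fppfPrecoverage, Nonempty (NonAbH1.EquivIso (Q.act.bc a) β) := by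
  let κ : G₀ ⟶ Red.bc e.hom (Red.bc e.inv G₀) :=
    (bcId G₀).inv ≫ (ActBC.bcCompIso e.hom e.inv G₀ e.hom_inv_id).inv
  haveI : IsMonHom κ := inferInstanceAs (IsMonHom (_ ≫ _))
  haveI : IsIso κ := inferInstanceAs (IsIso (_ ≫ _))
  refine ⟨⟨P.X, P.act.restrict κ, isTorsorFor_restrict P.isTorsor κ⟩, ?_⟩
  let ι₁ := (ActBC.bcCompIso a e.hom (Red.bc e.inv G₀) (rfl : a ≫ e.hom = _)).inv
  let ι₂ := (ActBC.bcCompIso (𝟙 A) (a ≫ e.hom) (Red.bc e.inv G₀) (Category.id_comp _)).inv
  let ρ := (phi e (G₀ := G₀) a).inv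
  have e2 : ι₂ ≫ (bcId (Red.bc (a ≫ e.hom) (Red.bc e.inv G₀))).hom = 𝟙 _ := by
    refine bc_hom_ext _ ?_
    rw [Over.comp_left, Category.assoc, bcId_hom_left]
    exact (bcCompIso_inv_left (𝟙 A) (a ≫ e.hom) (Category.id_comp _) (Red.bc e.inv G₀)).trans (Category.id_comp _).symm
  have e1 : (Over.pullback a).map κ = ρ ≫ ι₁ := by
    refine bc_hom_ext a (pullback.hom_ext (pullback.hom_ext ?_ ?_) ?_)
    · have p1 := ActBC.pullback_map_left_fst a κ
      have p2 := bcCompIso_inv_left e.hom e.inv (d := 𝟙 S) e.hom_inv_id G₀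
      have p3 : (bcId G₀).inv.left ≫ pullback.fst G₀.hom (𝟙 S) = 𝟙 G₀.left := by
        rw [← bcId_hom_left, ← Over.comp_left, Iso.inv_hom_id]; rfl
      have p4 := bcCompIso_inv_left a e.hom (d := a ≫ e.hom) rfl (Red.bc e.inv G₀)
      have p5 := bcCompIso_inv_left (a ≫ e.hom) e.inv (d := a)
        (by rw [Category.assoc, e.hom_inv_id, Category.comp_id]) G₀
      simp only [Category.assoc]
      rw [reassoc_of% p1]
      show pullback.fst G₀.hom a ≫ ((bcId G₀).inv.left ≫ (ActBC.bcCompIso e.hom e.inv G₀ e.hom_inv_id).inv.left) ≫ _ = _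
      rw [Category.assoc, p2, p3]
      show pullback.fst G₀.hom a ≫ 𝟙 _ = (ρ.left ≫ ι₁.left) ≫ _
      rw [Category.comp_id, Category.assoc]
      show _ = (phi e a).inv.left ≫ (ActBC.bcCompIso a e.hom (Red.bc e.inv G₀) rfl).inv.left ≫ _
      rw [reassoc_of% p4]
      exact p5.symm
    · simp only [Category.assoc]
      show _ ≫ _ ≫ _ ≫ (Red.bc e.inv G₀).hom = _ ≫ _ ≫ _ ≫ (Red.bc e.inv G₀).hom
      rw [pullback.condition]
      simp only [← Category.assoc]
      congr 1
      simp only [Category.assoc]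
      show _ ≫ _ ≫ (Red.bc e.hom (Red.bc e.inv G₀)).hom = _ ≫ _ ≫ (Red.bc e.hom (Red.bc e.inv G₀)).hom
      rw [pullback.condition]
      simp only [← Category.assoc]
      congr 1
      exact (Over.w _).trans (Over.w _).symm
    · simp only [Category.assoc]
      show _ ≫ _ ≫ (Red.bc e.hom (Red.bc e.inv G₀)).hom = _ ≫ _ ≫ (Red.bc e.hom (Red.bc e.inv G₀)).hom
      rw [pullback.condition]
      simp only [← Category.assoc]
      congr 1
      exact (Over.w _).trans (Over.w _).symm
  have hk := restrictIso h ρ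
  rw [show (bcAct e.hom P.act a rfl).restrict ρ = (P.act.restrict κ).bc a by
    rw [AlgGrp.Action.bc_restrict, bcAct, restrict_restrict]
    exact AlgGrp.Action.ext' (by simp only [AlgGrp.Action.restrict_act, e1]; rfl)] at hk
  refine ⟨⟨hk.iso ≪≫ bcId Y, ?_⟩⟩
  rw [Iso.trans_hom, ← Category.assoc, hk.comm, Category.assoc, whiskerLeft_comp, Category.assoc]
  congr 1
  rw [bcAct, restrict_restrict, AlgGrp.Action.restrict_act, Category.assoc, bcId_act,
    AlgGrp.Action.restrict_act]
  simp only [← Category.assoc]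
  congr 1
  rw [tensorHom_def, ← Category.assoc, ← comp_whiskerRight, Category.assoc, whisker_exchange, ← Category.assoc,
    ← comp_whiskerRight]
  have : ((ρ ≫ ι₂) ≫ (bcId (Red.bc (a ≫ e.hom) (Red.bc e.inv G₀))).hom) ≫ (phi e a).hom = 𝟙 _ := by
    rw [Category.assoc ρ, e2, Category.comp_id]
    exact Iso.inv_hom_id _
  rw [this, id_whiskerRight, Category.id_comp]

end Groth.Agent.QuillenLib
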