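import Groth.Agent.QuillenLib.Cond
import Mathlib.RingTheory.TensorProduct.Maps
import Mathlib.RingTheory.Localization.BaseChange
import Mathlib.RingTheory.Localization.Away.Basic

/-!
# Affine products over an affine base
-/

universe u

open CategoryTheory Limits AlgebraicGeometry Opposite Polynomial TensorProduct

noncomputable section

set_option backward.isDefEq.respectTransparency false

namespace Groth.Agent.QuillenLib

variable {R : Type u} [CommRing R] {P Q : Type u} [CommRing P] [CommRing Q] [Algebra R P] [Algebra R Q]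

/-- The left inclusion. -/
abbrev inL (R P Q : Type u) [CommRing R] [CommRing P] [CommRing Q] [Algebra R P] [Algebra R Q] : P →ₐ[R] P ⊗[R] Q :=
  Algebra.TensorProduct.includeLeft

/-- The right inclusion. -/
abbrev inR (R P Q : Type u) [CommRing R] [CommRing P] [CommRing Q] [Algebra R P] [Algebra R Q] : Q →ₐ[R] P ⊗[R] Q :=
  Algebra.TensorProduct.includeRight

/-- Points of the spectrum of a tensor product are pairs of points. -/
theorem exists_lift_tensor {W : Over (Spec (CommRingCat.of R))} (b : W ⟶ O R P) (w : W ⟶ O R Q) :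
    ∃ m : W ⟶ O R (P ⊗[R] Q), m ≫ om (inL R P Q) = b ∧ m ≫ om (inR R P Q) = w := by
  let m₀ := pullback.lift (f := Spec.map (CommRingCat.ofHom (algebraMap R P)))
    (g := Spec.map (CommRingCat.ofHom (algebraMap R Q))) b.left w.left ((Over.w b).trans (Over.w w).symm) ≫
      (pullbackSpecIso R P Q).hom
  have h1 : m₀ ≫ Spec.map (CommRingCat.ofHom (inL R P Q).toRingHom) = b.left := by
    rw [Category.assoc]
    exact (congrArg (_ ≫ ·) (pullbackSpecIso_hom_fst R P Q)).trans (pullback.lift_fst _ _ _)
  have h2 : m₀ ≫ Spec.map (CommRingCat.ofHom (inR R P Q).toRingHom) = w.left := by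
    rw [Category.assoc]
    exact (congrArg (_ ≫ ·) (pullbackSpecIso_hom_snd R P Q)).trans (pullback.lift_snd _ _ _)
  refine ⟨Over.homMk m₀ ?_, Over.OverMorphism.ext h1, Over.OverMorphism.ext h2⟩
  show m₀ ≫ Spec.map (CommRingCat.ofHom (algebraMap R (P ⊗[R] Q))) = W.hom
  rw [show algebraMap R (P ⊗[R] Q) = (inL R P Q).toRingHom.comp (algebraMap R P) from
    (inL R P Q).comp_algebraMap.symm, specMap_comp, ← Category.assoc, h1]
  exact Over.w b

/-- Points of the spectrum of a tensor product are determined by their components. -/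
theorem tensor_hom_ext {W : Over (Spec (CommRingCat.of R))} {m m' : W ⟶ O R (P ⊗[R] Q)}
    (hl : m ≫ om (inL R P Q) = m' ≫ om (inL R P Q)) (hr : m ≫ om (inR R P Q) = m' ≫ om (inR R P Q)) : m = m' := by
  refine Over.OverMorphism.ext ((cancel_mono (pullbackSpecIso R P Q).inv).1 ?_)
  apply pullback.hom_ext
  · rw [Category.assoc, Category.assoc, pullbackSpecIso_inv_fst]
    exact congrArg CommaMorphism.left hl
  · rw [Category.assoc, Category.assoc, pullbackSpecIso_inv_snd]
    exact congrArg CommaMorphism.left hr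

/-- Polynomials over a tensor product are a tensor product. -/
def polyTensor (R P Q : Type u) [CommRing R] [CommRing P] [CommRing Q] [Algebra R P] [Algebra R Q] :
    P ⊗[R] Q[X] →ₐ[R] (P ⊗[R] Q)[X] :=
  Algebra.TensorProduct.productMap ((cst R (P ⊗[R] Q)).comp (inL R P Q)) (mapAlgHom (inR R P Q))

/-- The inverse identification. -/
def polyTensorInv (R P Q : Type u) [CommRing R] [CommRing P] [CommRing Q] [Algebra R P] [Algebra R Q] :
    (P ⊗[R] Q)[X] →ₐ[R] P ⊗[R] Q[X] :=
  Polynomial.aevalTower (Algebra.TensorProduct.map (AlgHom.id R P) (cst R Q)) (inR R P Q[X] Polynomial.X)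

theorem polyTensor_inv : (polyTensor R P Q).comp (polyTensorInv R P Q) = AlgHom.id R _ := by
  refine polyHom_ext (fun a => ?_) (by simp [polyTensor, polyTensorInv, ← Algebra.TensorProduct.one_def])
  induction a using TensorProduct.induction_on with
  | zero => simp
  | add x y hx hy => simp only [map_add, hx, hy]
  | tmul p q => simp [polyTensor, polyTensorInv, cst, ← map_mul]

theorem polyTensorInv_inv : (polyTensorInv R P Q).comp (polyTensor R P Q) = AlgHom.id R _ := by
  refine Algebra.TensorProduct.ext (AlgHom.ext fun p => by simp [polyTensor, polyTensorInv, cst]) ?_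
  refine polyHom_ext (fun q => ?_) ?_
  · simp [polyTensor, polyTensorInv, cst]
  · simp [polyTensor, polyTensorInv, ← Algebra.TensorProduct.one_def]

/-- Points of the spectrum of polynomials over a tensor product are pairs of points. -/
theorem exists_lift_poly {W : Over (Spec (CommRingCat.of R))} (b : W ⟶ O R P) (w : W ⟶ O R Q[X]) :
    ∃ m : W ⟶ O R (P ⊗[R] Q)[X],
      m ≫ om ((cst R (P ⊗[R] Q)).comp (inL R P Q)) = b ∧ m ≫ om (mapAlgHom (inR R P Q)) = w := by
  obtain ⟨m, h1, h2⟩ := exists_lift_tensor b w
  refine ⟨m ≫ om (polyTensorInv R P Q), ?_, ?_⟩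
  · rw [Category.assoc, ← om_comp]
    refine Eq.trans ?_ h1
    congr 2
    exact AlgHom.ext fun p => by simp [polyTensorInv, cst]
  · rw [Category.assoc, ← om_comp]
    refine Eq.trans ?_ h2
    congr 2
    refine polyHom_ext (fun q => ?_) ?_
    · simp [polyTensorInv, cst]
    · simp [polyTensorInv]

/-- Points of the spectrum of polynomials over a tensor product are determined by their components. -/
theorem poly_hom_ext {W : Over (Spec (CommRingCat.of R))} {m m' : W ⟶ O R (P ⊗[R] Q)[X]}
    (hl : m ≫ om ((cst R (P ⊗[R] Q)).comp (inL R P Q)) = m' ≫ om ((cst R (P ⊗[R] Q)).comp (inL R P Q)))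
    (hr : m ≫ om (mapAlgHom (inR R P Q)) = m' ≫ om (mapAlgHom (inR R P Q))) : m = m' := by
  have key : m ≫ om (polyTensor R P Q) = m' ≫ om (polyTensor R P Q) := by
    refine tensor_hom_ext ?_ ?_
    · rw [Category.assoc, Category.assoc, ← om_comp, polyTensor, Algebra.TensorProduct.productMap_left, hl]
    · rw [Category.assoc, Category.assoc, ← om_comp, polyTensor, Algebra.TensorProduct.productMap_right, hr]
  have := congrArg (· ≫ om (polyTensorInv R P Q)) key
  simpa only [Category.assoc, ← om_comp, polyTensor_inv, om_id, Category.comp_id] using this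

/-- Tensoring preserves localisation at an element. -/
theorem IsLocAt.lTensor {A B : Type u} [CommRing A] [CommRing B] [Algebra R A] [Algebra R B] {ψ : A →ₐ[R] B}
    {r : R} (h : IsLocAt ψ r) : IsLocAt (Algebra.TensorProduct.map (AlgHom.id R P) ψ) r := by
  have hsm : ∀ (n : ℕ) (b : B), (r ^ n) • b = algebraMap R B r ^ n * b := fun n b => by
    rw [Algebra.smul_def, map_pow]
  have hsmA : ∀ (n : ℕ) (a : A), (r ^ n) • a = algebraMap R A r ^ n * a := fun n a => by
    rw [Algebra.smul_def, map_pow]
  haveI : IsLocalizedModule (Submonoid.powers r) ψ.toLinearMap := by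
    refine ⟨?_, fun y => ?_, fun {x₁ x₂} hx => ?_⟩
    · rintro ⟨_, n, rfl⟩
      rw [Module.End.isUnit_iff]
      have : IsUnit (algebraMap R B (r ^ n)) := by rw [map_pow]; exact h.unit.pow n
      have := (Units.mulLeft this.unit).bijective
      convert this using 1
      funext b
      rw [Module.algebraMap_end_apply, Algebra.smul_def]
      simp
    · obtain ⟨N, a, ha⟩ := h.surj y
      exact ⟨(a, ⟨r ^ N, N, rfl⟩), by rw [Submonoid.smul_def]; exact (hsm N y).trans ha.symm⟩
    · obtain ⟨N, hN⟩ := h.ker (x₁ - x₂) (by rw [map_sub]; exact sub_eq_zero.mpr hx)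
      refine ⟨⟨r ^ N, N, rfl⟩, ?_⟩
      rw [Submonoid.smul_def, Submonoid.smul_def, ← sub_eq_zero, ← smul_sub]
      exact (hsmA N _).trans hN
  refine ⟨?_, fun b => ?_, fun a ha => ?_⟩
  · rw [← (inR R P B).commutes]
    exact h.unit.map _
  · induction b using TensorProduct.induction_on with
    | zero => exact ⟨0, 0, by simp⟩
    | tmul p b =>
      obtain ⟨N, a, ha⟩ := h.surj b
      refine ⟨N, p ⊗ₜ a, ?_⟩
      rw [Algebra.TensorProduct.map_tmul, AlgHom.id_apply, ha, ← map_pow, ← map_pow, ← Algebra.smul_def,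
        ← Algebra.smul_def, tmul_smul]
    | add x y hx hy =>
      obtain ⟨N, a, ha⟩ := hx
      obtain ⟨M, b, hb⟩ := hy
      refine ⟨N + M, algebraMap R (P ⊗[R] A) r ^ M * a + algebraMap R (P ⊗[R] A) r ^ N * b, ?_⟩
      rw [map_add, map_mul, map_mul, map_pow, map_pow, AlgHom.commutes, ha, hb]
      ring
  · let f := AlgebraTensorModule.rTensor R P ψ.toLinearMap
    haveI : IsLocalizedModule (Submonoid.powers r) f := inferInstance
    have hf : ∀ x : P ⊗[R] A, f (TensorProduct.comm R P A x) =
        TensorProduct.comm R P B (Algebra.TensorProduct.map (AlgHom.id R P) ψ x) := fun x => by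
      induction x using TensorProduct.induction_on with
      | zero => simp
      | tmul p a => simp [f]
      | add x y hx hy => simp only [map_add, hx, hy]
    obtain ⟨⟨_, N, rfl⟩, hN⟩ := (IsLocalizedModule.eq_zero_iff (Submonoid.powers r) f).mp
      ((hf a).trans (by rw [ha, map_zero]))
    refine ⟨N, (TensorProduct.comm R P A).injective ?_⟩
    rw [map_zero, ← map_pow, ← Algebra.smul_def, map_smul]
    exact hN

end Groth.Agent.QuillenLib
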