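import Groth.Agent.QuillenLib.Compare

/-!
# Descent of a torsor as a transport to the value at the section
-/

universe u

open CategoryTheory CategoryTheory.Limits MonoidalCategory CartesianMonoidalCategory MonObj GrpObj AlgebraicGeometry

noncomputable section

set_option backward.isDefEq.respectTransparency false
set_option backward.isDefEq.respectTransparency.types false

namespace Groth.Agent.QuillenLib

variable {S S' : Scheme.{u}} {G H X : Over S} [GrpObj G] [GrpObj H]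

theorem isPseudoTorsorSch_restrict {a : AlgGrp.Action G X} (ha : NonAbH1.IsPseudoTorsorSch a) (φ : H ⟶ G)
    [IsMonHom φ] [IsIso φ] : NonAbH1.IsPseudoTorsorSch (a.restrict φ) := by
  haveI : IsIso (lift a.act (snd G X)) := ha
  have e : lift (a.restrict φ).act (snd H X) = (φ ▷ X) ≫ lift a.act (snd G X) := by
    rw [comp_lift, whiskerRight_snd, AlgGrp.Action.restrict_act]
  show IsIso _
  rw [e]
  infer_instance

theorem isTorsorFor_restrict {K : Precoverage Scheme.{u}} {a : AlgGrp.Action G X}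
    (ha : NonAbH1.IsTorsorFor K a) (φ : H ⟶ G) [IsMonHom φ] [IsIso φ] :
    NonAbH1.IsTorsorFor K (a.restrict φ) :=
  ⟨isPseudoTorsorSch_restrict ha.1 φ, ha.2⟩

theorem isTorsorFor_fpqc {a : AlgGrp.Action G X} (ha : NonAbH1.IsTorsorFor Scheme.fppfPrecoverage a) :
    NonAbH1.IsTorsorFor Scheme.fpqcPrecoverage a :=
  ⟨ha.1, ha.2.imp fun _ h => ⟨Scheme.fppfPrecoverage_le_fpqcPrecoverage _ h.1, h.2⟩⟩

theorem inv_comm {X' : Over S} {a : AlgGrp.Action G X} {a' : AlgGrp.Action G X'} (e : NonAbH1.EquivIso a a') :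
    a'.act ≫ e.iso.inv = (G ◁ e.iso.inv) ≫ a.act := by
  rw [← cancel_mono e.iso.hom, Category.assoc, Category.assoc, Iso.inv_hom_id, Category.comp_id, e.comm,
    ← whiskerLeft_comp_assoc, Iso.inv_hom_id, whiskerLeft_id, Category.id_comp]

variable {S₀ A U : Scheme.{u}} {G₀ : Over S₀} [GrpObj G₀] (a : A ⟶ S₀)
  (X₀ : NonAbH1.TorsorSch (Red.bc a G₀) Scheme.fppfPrecoverage) (z : 𝟙_ (Over S₀) ⟶ Over.mk a) (q : U ⟶ S₀)

/-- The bundle of the torsor. -/
abbrev bunX : Bun G₀ (Over.mk a) := bunOf a X₀.act X₀.isTorsor.1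

/-- The first projection of the base change, over the base. -/
abbrev xbar : Over.mk (pullback.snd a q ≫ q) ⟶ Over.mk a := vbar a (pullback.fst a q) pullback.condition

theorem equivIso_of_tiso {T : Scheme.{u}} (v : T ⟶ U) (w : T ⟶ A) {d : T ⟶ S₀} (hv : v ≫ q = d)
    (hw : w ≫ a = d) (θ : TIso (bunX a X₀) (vbar a w hw) (toUnit _ ≫ z)) :
    ∃ P : NonAbH1.TorsorSch (Red.bc q G₀) Scheme.fppfPrecoverage,
      Nonempty (NonAbH1.EquivIso (bcAct q P.act v hv) (bcAct a X₀.act w hw)) := by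
  let vb : Over.mk d ⟶ Over.mk q := vbar q v hv
  let zb : Over.mk q ⟶ Over.mk a := toUnit (Over.mk q) ≫ z
  have hzb : ∀ {W : Over S₀} (u : W ⟶ Over.mk q), u ≫ zb = toUnit W ≫ z := fun u => by
    rw [← Category.assoc, toUnit_unique (u ≫ toUnit _) (toUnit _)]
  have hzt : ∀ {W : Over S₀} (t : W ⟶ Over.mk d), t ≫ toUnit (Over.mk d) ≫ z = toUnit W ≫ z := fun t => by
    rw [← Category.assoc, toUnit_unique (t ≫ toUnit _) (toUnit _)]
  have hz : zb.left ≫ a = q := Over.w zb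
  let αP : AlgGrp.Action (Red.bc q G₀) (Red.bc zb.left X₀.X) := bcAct a X₀.act zb.left hz
  have hP : NonAbH1.IsTorsorFor Scheme.fppfPrecoverage αP :=
    isTorsorFor_restrict (NonAbH1.isTorsorFor_bc zb.left _ X₀.isTorsor) _
  refine ⟨⟨_, αP, hP⟩, ?_⟩
  let dn : ∀ {W : Over S₀} (ζ : W ⟶ low q (Red.bc zb.left X₀.X)), W ⟶ low a X₀.X := fun {W} ζ =>
    Over.homMk (ζ.left ≫ pullback.fst X₀.X.hom zb.left) (by
      show _ ≫ X₀.X.hom ≫ a = _
      rw [Category.assoc, pullback.condition_assoc, hz]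
      exact Over.w ζ)
  have hdn : ∀ {W : Over S₀} (ζ : W ⟶ low q (Red.bc zb.left X₀.X)),
      dn ζ ≫ pr a X₀.X = (ζ ≫ pr q (Red.bc zb.left X₀.X)) ≫ zb := fun ζ => by
    refine Over.OverMorphism.ext ?_
    show (ζ.left ≫ pullback.fst X₀.X.hom zb.left) ≫ X₀.X.hom = (ζ.left ≫ pullback.snd X₀.X.hom zb.left) ≫ zb.left
    rw [Category.assoc, pullback.condition, Category.assoc]
  have hdn_sm : ∀ {W : Over S₀} (m : W ⟶ G₀) (ζ : W ⟶ low q (Red.bc zb.left X₀.X)),
      dn ((bunOf q αP hP.1).sm m ζ) = (bunX a X₀).sm m (dn ζ) := fun {W} m ζ => by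
    let u : W ⟶ Over.mk q := ζ ≫ pr q (Red.bc zb.left X₀.X)
    have e : pt q (Red.bc zb.left X₀.X) u ζ rfl = bpt a X₀.X zb.left hz u (dn ζ) (hdn ζ) :=
      bpt_ext zb.left u (bpt_fst a zb.left hz u (dn ζ) (hdn ζ)).symm
    refine Over.OverMorphism.ext ?_
    show ((bunOf q αP hP.1).sm m ζ).left ≫ pullback.fst X₀.X.hom zb.left = _
    rw [bunOf_sm_left q αP hP.1 u m ζ rfl, e, bcAct_pt a X₀.act zb.left hz X₀.isTorsor.1 u m (dn ζ) (hdn ζ),
      bpt_fst]
  have hmem : ∀ {W : Over S₀} (t : W ⟶ Over.mk d) (ζ : W ⟶ low q (Red.bc zb.left X₀.X)),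
      ζ ≫ pr q (Red.bc zb.left X₀.X) = t ≫ vb → dn ζ ≫ (bunX a X₀).p = t ≫ toUnit _ ≫ z := fun t ζ h => by
    show dn ζ ≫ pr a X₀.X = _
    rw [hdn, hzb, hzt]
  obtain ⟨f, hf⟩ := exists_ofPts q a v w hv hw hP.1
    X₀.isTorsor.1 (fun W t ζ h => θ.inv.app t (dn ζ) (hmem t ζ h)) (fun W t ζ h => θ.inv.mem t _ _)
    (fun W W' k t ζ h => by
      rw [θ.inv.nat]
      exact θ.inv.app_congr rfl (Over.OverMorphism.ext (Category.assoc _ _ _).symm) _ _)
    (fun W t m ζ h => by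
      rw [← θ.inv.equiv]
      exact θ.inv.app_congr rfl (hdn_sm m ζ) _ _)
  haveI : IsIso f := SchTorsor.isIso_of_equivariant
    (isTorsorFor_fpqc (isTorsorFor_restrict (NonAbH1.isTorsorFor_bc _ _ hP) _))
    (isPseudoTorsorSch_restrict (NonAbH1.isPseudoTorsorSch_bc _ X₀.isTorsor.1) _) f hf
  exact ⟨⟨asIso f, hf⟩⟩

theorem tiso_of_equivIso {T : Scheme.{u}} (v : T ⟶ U) (w : T ⟶ A) {d : T ⟶ S₀} (hv : v ≫ q = d)
    (hw : w ≫ a = d) (s : U ⟶ T) (hs₁ : s ≫ v = 𝟙 U) (hs₂ : s ≫ w = (toUnit (Over.mk q) ≫ z).left)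
    (P : NonAbH1.TorsorSch (Red.bc q G₀) Scheme.fppfPrecoverage)
    (e : NonAbH1.EquivIso (bcAct q P.act v hv) (bcAct a X₀.act w hw)) :
    Nonempty (TIso (bunX a X₀) (vbar a w hw) (toUnit _ ≫ z)) := by
  let vb : Over.mk d ⟶ Over.mk q := vbar q v hv
  let zb : Over.mk q ⟶ Over.mk a := toUnit (Over.mk q) ≫ z
  have hzb : ∀ {W : Over S₀} (u : W ⟶ Over.mk q), u ≫ zb = toUnit W ≫ z := fun u => by
    rw [← Category.assoc, toUnit_unique (u ≫ toUnit _) (toUnit _)]
  have hzt : ∀ {W : Over S₀} (t : W ⟶ Over.mk d), t ≫ toUnit (Over.mk d) ≫ z = toUnit W ≫ z := fun t => by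
    rw [← Category.assoc, toUnit_unique (t ≫ toUnit _) (toUnit _)]
  let sT : Over.mk q ⟶ Over.mk d := Over.homMk s (by
    show s ≫ d = q
    rw [← hv, ← Category.assoc, hs₁]; exact Category.id_comp q)
  have hs1 : sT ≫ vb = 𝟙 _ := Over.OverMorphism.ext hs₁
  have hs2 : sT ≫ vbar a w hw = zb := Over.OverMorphism.ext hs₂
  let f := e.iso.hom
  let g := e.iso.inv
  have hfg : f ≫ g = 𝟙 _ := e.iso.hom_inv_id
  have hgf : g ≫ f = 𝟙 _ := e.iso.inv_hom_id
  have pf := fun {W : Over S₀} (t : W ⟶ Over.mk d) (ξ : W ⟶ low q P.X) h =>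
    push q a v w hv hw f t ξ h
  let τ := fun {W : Over S₀} (t : W ⟶ Over.mk d) => t ≫ vb ≫ sT
  have hτ1 : ∀ {W : Over S₀} (t : W ⟶ Over.mk d), τ t ≫ vb = t ≫ vb := fun t => by
    simp [τ, hs1]
  have hτ2 : ∀ {W : Over S₀} (t : W ⟶ Over.mk d), τ t ≫ vbar a w hw = toUnit W ≫ z :=
    fun t => by simp only [τ, Category.assoc, hs2]; rw [← Category.assoc, hzb]
  refine ⟨⟨⟨fun W t ξ h => push q a v w hv hw f (τ t)
      (push a q w v hw hv g t ξ h)
      ((push_pr a q w v hw hv g t ξ h).trans (hτ1 t).symm), ?_, ?_, ?_⟩,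
    ⟨fun W t ξ h => push q a v w hv hw f t
      (push a q w v hw hv g (τ t) ξ
        (h.trans ((hzt t).trans (hτ2 t).symm)))
      ((push_pr a q w v hw hv g (τ t) ξ _).trans (hτ1 t)), ?_, ?_, ?_⟩, ?_, ?_⟩⟩
  · intro W t ξ h
    exact (push_pr q a v w hv hw f _ _ _).trans ((hτ2 t).trans (hzt t).symm)
  · intro W W' k t ξ h
    rw [push_nat]
    exact push_congr q a v w hv hw f (by simp [τ]) (push_nat a q w v hw hv g k t ξ h) _ _
  · intro W t m ξ h
    rw [← push_sm q a v w hv hw P.isTorsor.1 X₀.isTorsor.1 f e.comm]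
    exact push_congr q a v w hv hw f rfl
      (push_sm a q w v hw hv X₀.isTorsor.1 P.isTorsor.1 g (inv_comm e) t m ξ h) _ _
  · intro W t ξ h
    exact push_pr q a v w hv hw f _ _ _
  · intro W W' k t ξ h
    rw [push_nat]
    exact push_congr q a v w hv hw f rfl ((push_nat a q w v hw hv g k (τ t) ξ _).trans
      (push_congr a q w v hw hv g (by simp [τ]) rfl _ _)) _ _
  · intro W t m ξ h
    rw [← push_sm q a v w hv hw P.isTorsor.1 X₀.isTorsor.1 f e.comm]
    exact push_congr q a v w hv hw f rfl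
      (push_sm a q w v hw hv X₀.isTorsor.1 P.isTorsor.1 g (inv_comm e) (τ t) m ξ _) _ _
  · refine Tra.ext fun W t ξ h => ?_
    show push q a v w hv hw f t (push a q w v hw hv g (τ t) (push q a v w hv hw f (τ t) _ _) _) _ = ξ
    have e1 := fun η' hη' => (push_comp q a q _ w _ hv hw hv f g (τ t) η' hη').trans
      ((by simp only [hfg]; exact push_id q _ hv (τ t) η' hη') :
        push q q v v hv hv (f ≫ g) (τ t) η' hη' = η')
    rw [push_congr q a v w hv hw f rfl (e1 _ _) _ (push_pr a q w v hw hv g t ξ h), push_comp]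
    simp only [hgf]
    exact push_id a _ _ t ξ h
  · refine Tra.ext fun W t ξ h => ?_
    show push q a v w hv hw f (τ t) (push a q w v hw hv g t (push q a v w hv hw f t _ _) _) _ = ξ
    have e1 := fun η' hη' => (push_comp q a q _ w _ hv hw hv f g t η' hη').trans
      ((by simp only [hfg]; exact push_id q _ hv t η' hη') :
        push q q v v hv hv (f ≫ g) t η' hη' = η')
    rw [push_congr q a v w hv hw f rfl (e1 _ _) _
      (push_pr a q w v hw hv g (τ t) ξ (h.trans ((hzt t).trans (hτ2 t).symm))), push_comp]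
    simp only [hgf]
    exact push_id a _ _ (τ t) ξ _

theorem desc_iff :
    (∃ P : NonAbH1.TorsorSch (Red.bc q G₀) Scheme.fppfPrecoverage,
      Nonempty (NonAbH1.EquivIso (bcAct q P.act (pullback.snd a q) (rfl : _ = pullback.snd a q ≫ q))
        (bcAct a X₀.act (pullback.fst a q) pullback.condition))) ↔
      Nonempty (TIso (bunX a X₀) (xbar a q) (toUnit _ ≫ z)) := by
  constructor
  · rintro ⟨P, ⟨e⟩⟩
    exact tiso_of_equivIso a X₀ z q _ _ rfl pullback.condition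
      (pullback.lift (toUnit (Over.mk q) ≫ z).left (𝟙 U) ((Over.w (toUnit (Over.mk q) ≫ z)).trans (Category.id_comp q).symm))
      (pullback.lift_snd _ _ _) (pullback.lift_fst _ _ _) P e
  · rintro ⟨θ⟩
    exact equivIso_of_tiso a X₀ z q _ _ rfl pullback.condition θ

end Groth.Agent.QuillenLib
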