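import Groth.Agent.QuillenLib.Ideal
import Groth.Agent.QuillenLib.Desc
import Groth.Agent.SchTorsor.Props
import Mathlib.AlgebraicGeometry.AffineSpace

/-!
# The ideal of descent for a torsor on affine space over a ring
-/

universe u

open CategoryTheory CategoryTheory.Limits MonoidalCategory CartesianMonoidalCategory MonObj GrpObj AlgebraicGeometry

noncomputable section

set_option backward.isDefEq.respectTransparency false
set_option backward.isDefEq.respectTransparency.types false

namespace Groth.Agent.QuillenLib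

variable (R : Type u) [CommRing R] (n : Type u)

/-- The structure map of the affine space. -/
abbrev aA : 𝔸(n; Spec (CommRingCat.of R)) ⟶ Spec (CommRingCat.of R) :=
  𝔸(n; Spec (CommRingCat.of R)) ↘ Spec (CommRingCat.of R)

/-- The coordinates of the affine space. -/
def coordIso : O R (MvPolynomial n R) ≅ Over.mk (aA R n) :=
  Over.isoMk (AffineSpace.SpecIso n (CommRingCat.of R)).symm (AffineSpace.SpecIso_inv_over _)

/-- The base as a spectrum. -/
def baseIso : 𝟙_ (Over (Spec (CommRingCat.of R))) ⟶ O R R :=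
  Over.homMk (𝟙 _) (by
    show 𝟙 _ ≫ Spec.map (CommRingCat.ofHom (RingHom.id R)) = 𝟙 _
    rw [CommRingCat.ofHom_id, Spec.map_id]; rfl)

/-- The zero section. -/
def zsec {A : Scheme.{u}} {a : A ⟶ Spec (CommRingCat.of R)} (xI : O R (MvPolynomial n R) ≅ Over.mk a) :
    𝟙_ (Over (Spec (CommRingCat.of R))) ⟶ Over.mk a :=
  baseIso R ≫ om (MvPolynomial.aeval (0 : n → R)) ≫ xI.hom

theorem zsec_spec {A : Scheme.{u}} {a : A ⟶ Spec (CommRingCat.of R)} (xI : O R (MvPolynomial n R) ≅ Over.mk a) :
    om (MvPolynomial.aeval (0 : n → R)) ≫ xI.hom = toUnit (O R R) ≫ zsec R n xI := by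
  have e : toUnit (O R R) ≫ baseIso R = 𝟙 _ := by
    refine Over.OverMorphism.ext ?_
    have h := Over.w (toUnit (O R R))
    show (toUnit (O R R)).left ≫ 𝟙 _ = 𝟙 _
    rw [Category.comp_id]
    refine (Category.comp_id _).symm.trans (h.trans ?_)
    show Spec.map (CommRingCat.ofHom (RingHom.id R)) = _
    rw [CommRingCat.ofHom_id, Spec.map_id]; rfl
  rw [zsec, ← Category.assoc, e, Category.id_comp]

variable {R n} {G : Over (Spec (CommRingCat.of R))} [GrpObj G]
  {A : Scheme.{u}} {a : A ⟶ Spec (CommRingCat.of R)} (xI : O R (MvPolynomial n R) ≅ Over.mk a)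
  (X : NonAbH1.TorsorSch (Red.bc a G) Scheme.fppfPrecoverage)

/-- The torsor has a section over a faithfully flat affine cover, lying over the zero section. -/
theorem exists_cover : ∃ (R' : Type u) (_ : CommRing R') (_ : Algebra R R') (σ : O R R' ⟶ (bunX a X).X),
    σ ≫ (bunX a X).p = toUnit (O R R') ≫ zsec R n xI ∧ FpqcDescLib.Covers (O R R').hom := by
  let zl : Spec (CommRingCat.of R) ⟶ A := (zsec R n xI).left
  have hl : NonAbH1.IsLocallyTrivialFor Scheme.fpqcPrecoverage (Red.bc zl X.X) :=
    NonAbH1.isLocallyTrivialFor_bc zl _ (isTorsorFor_fpqc X.isTorsor).2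
  obtain ⟨Z, p, hp₁, hp₂, hp₃, s, hs⟩ := SchTorsor.exists_single hl (𝟙 (Spec (CommRingCat.of R)))
  haveI : CompactSpace Z := QuasiCompact.compactSpace_of_compactSpace p
  let 𝒰 := Z.affineCover.finiteSubcover
  haveI : ∀ i, IsAffine (𝒰.X i) := fun i => inferInstanceAs (IsAffine (Z.affineCover.X _))
  let π : ∐ 𝒰.X ⟶ Z := Sigma.desc 𝒰.f
  let f : Spec Γ(∐ 𝒰.X, ⊤) ⟶ Spec (CommRingCat.of R) := (∐ 𝒰.X).isoSpec.inv ≫ π ≫ p
  let R' : Type u := Γ(∐ 𝒰.X, ⊤)
  letI alg : Algebra R R' := (Spec.preimage f).hom.toAlgebra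
  have hf : (O R R').hom = f := Spec.map_preimage f
  haveI : Surjective π := inferInstance
  haveI : Flat π := inferInstance
  haveI : QuasiCompact f := inferInstance
  have hcov : FpqcDescLib.Covers (O R R').hom := by
    rw [hf]
    exact FpqcDescLib.covers_of_isCovering (FpqcDescLib.isCovering_of_quasiCompact f)
  refine ⟨R', inferInstance, alg, Over.homMk ((∐ 𝒰.X).isoSpec.inv ≫ π ≫ s ≫ pullback.fst X.X.hom zl) ?_, ?_, hcov⟩
  · show _ ≫ X.X.hom ≫ a = _
    rw [hf]
    simp only [Category.assoc, f]
    rw [pullback.condition_assoc, show zl ≫ a = 𝟙 _ from Over.w (zsec R n xI), Category.comp_id]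
    congr 2
    all_goals exact hs.trans (Category.comp_id p)
  · refine Over.OverMorphism.ext ?_
    show ((∐ 𝒰.X).isoSpec.inv ≫ π ≫ s ≫ pullback.fst X.X.hom zl) ≫ X.X.hom = (toUnit (O R R')).left ≫ zl
    rw [show (toUnit (O R R')).left = f from ((Category.comp_id _).symm.trans (Over.w (toUnit (O R R')))).trans hf]
    simp only [Category.assoc, f]
    rw [pullback.condition]
    congr 2
    rw [← Category.assoc]
    exact congrArg (· ≫ zl) (hs.trans (Category.comp_id p))

theorem mem_descSet_iff (r : R) :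
    r ∈ descSet (bunX a X) xI.hom (zsec R n xI) ↔
      Nonempty (TIso (bunX a X) (xbar a (Spec.map (CommRingCat.ofHom (algebraMap R (Localization.Away r)))))
        (toUnit _ ≫ zsec R n xI)) := by
  let q := Spec.map (CommRingCat.ofHom (algebraMap R (Localization.Away r)))
  let vb : Over.mk (pullback.snd a q ≫ q) ⟶ O R (Localization.Away r) := vbar q (pullback.snd a q) rfl
  obtain ⟨m, hm1, -⟩ := exists_lift_tensor (xbar a q ≫ xI.inv) vb
  have hm : m ≫ xL (Localization.Away r) xI.hom = xbar a q := by
    rw [← Category.assoc, hm1, Category.assoc, Iso.inv_hom_id, Category.comp_id]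
  let k : O R (PL R n (Localization.Away r)) ⟶ Over.mk (pullback.snd a q ≫ q) :=
    Over.homMk (pullback.lift (xL (Localization.Away r) xI.hom).left
      (om (inR R (MvPolynomial n R) (Localization.Away r))).left
      ((Over.w (xL (Localization.Away r) xI.hom)).trans
        (Over.w (om (inR R (MvPolynomial n R) (Localization.Away r)))).symm))
      (by show _ ≫ pullback.snd a q ≫ q = _
          rw [pullback.lift_snd_assoc]
          exact Over.w (om (inR R (MvPolynomial n R) (Localization.Away r))))
  have hk : k ≫ xbar a q = xL (Localization.Away r) xI.hom :=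
    Over.OverMorphism.ext (pullback.lift_fst _ _ _)
  exact ⟨Nonempty.map fun φ => φ.res m _ _ hm (comp_toUnit_z m),
    Nonempty.map fun φ => φ.res k _ _ hk (comp_toUnit_z k)⟩

/-- The ideal of elements over which the torsor descends. -/
theorem exists_desc_ideal [LocallyOfFinitePresentation G.hom] :
    ∃ I : Ideal R, ∀ r : R, r ∈ I ↔
      Nonempty (TIso (bunX a X) (xbar a (Spec.map (CommRingCat.ofHom (algebraMap R (Localization.Away r)))))
        (toUnit _ ≫ zsec R n xI)) := by
  obtain ⟨R', _, _, σ, hσ, hcv⟩ := exists_cover xI X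
  refine ⟨{ carrier := descSet (bunX a X) xI.hom (zsec R n xI)
            add_mem' := fun {a b} ha hb => add_mem_descSet (zsec_spec R n xI) σ hσ hcv ha hb
            zero_mem' := zero_mem_descSet
            smul_mem' := fun c r hr => mul_mem_descSet hr c }, fun r => mem_descSet_iff xI X r⟩

end Groth.Agent.QuillenLib
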