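import Groth.Agent.QuillenLib.Tra
import Groth.Prelude.Def_ActBC

/-!
# The bundle of an action of a base-changed group

An action of the base change of `G` on a scheme over `U` is an action of `G` on the same scheme seen
over the base, commuting with the projection to `U`.
-/

universe u

open CategoryTheory CategoryTheory.Limits MonoidalCategory CartesianMonoidalCategory MonObj GrpObj AlgebraicGeometry

noncomputable section

set_option backward.isDefEq.respectTransparency false
set_option backward.isDefEq.respectTransparency.types false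

namespace Groth.Agent.QuillenLib

variable {S₀ U : Scheme.{u}} (q : U ⟶ S₀) {G : Over S₀} [GrpObj G]

/-- A point of the group as a point of its base change. -/
def lg {W : Over S₀} (u : W ⟶ Over.mk q) (g : W ⟶ G) : Over.mk u.left ⟶ Red.bc q G :=
  Over.homMk (pullback.lift g.left u.left ((Over.w g).trans (Over.w u).symm)) (pullback.lift_snd _ _ _)

omit [GrpObj G] in
@[simp] theorem lg_fst {W : Over S₀} (u : W ⟶ Over.mk q) (g : W ⟶ G) :
    (lg q u g).left ≫ pullback.fst G.hom q = g.left := pullback.lift_fst _ _ _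

omit [GrpObj G] in
theorem lg_eq {W : Over S₀} (u : W ⟶ Over.mk q) (g : W ⟶ G) :
    lg q u g = (Over.mapPullbackAdj q).homEquiv (Over.mk u.left) G
      ((Over.homMk (𝟙 W.left) (by show 𝟙 _ ≫ W.hom = u.left ≫ q; rw [Category.id_comp]; exact (Over.w u).symm) :
        (Over.map q).obj (Over.mk u.left) ⟶ W) ≫ g) := by
  refine Over.OverMorphism.ext (pullback.hom_ext ?_ ?_) <;> simp [lg, Over.mapPullbackAdj]

theorem lg_mul {W : Over S₀} (u : W ⟶ Over.mk q) (g h : W ⟶ G) : lg q u (g * h) = lg q u g * lg q u h := by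
  rw [lg_eq, lg_eq, lg_eq, MonObj.comp_mul, AlgGrp.Action.homEquiv_mul]

theorem lg_one {W : Over S₀} (u : W ⟶ Over.mk q) : lg q u (1 : W ⟶ G) = 1 := by
  have h := lg_mul q u (1 : W ⟶ G) 1
  rw [_root_.one_mul] at h
  exact left_eq_mul.mp h

omit [GrpObj G] in
theorem lg_injective {W : Over S₀} (u : W ⟶ Over.mk q) {g h : W ⟶ G} (e : lg q u g = lg q u h) : g = h := by
  refine Over.OverMorphism.ext ?_
  rw [← lg_fst q u g, ← lg_fst q u h, e]

omit [GrpObj G] in
theorem lg_surjective {W : Over S₀} (u : W ⟶ Over.mk q) (g' : Over.mk u.left ⟶ Red.bc q G) :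
    ∃ g : W ⟶ G, lg q u g = g' := by
  refine ⟨Over.homMk (g'.left ≫ pullback.fst G.hom q) ?_, Over.OverMorphism.ext ?_⟩
  · rw [Category.assoc, pullback.condition, ← Category.assoc]
    exact (congrArg (· ≫ q) (Over.w g')).trans (Over.w u)
  · apply pullback.hom_ext
    · exact pullback.lift_fst _ _ _
    · exact (pullback.lift_snd _ _ _).trans (Over.w g').symm

variable (Z : Over U)

/-- The scheme seen over the base. -/
abbrev low : Over S₀ := Over.mk (Z.hom ≫ q)

/-- Its projection. -/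
def pr : low q Z ⟶ Over.mk q := Over.homMk Z.hom rfl

/-- A point over the base as a point over `U`. -/
def pt {W : Over S₀} (u : W ⟶ Over.mk q) (ξ : W ⟶ low q Z) (h : ξ ≫ pr q Z = u) : Over.mk u.left ⟶ Z :=
  Over.homMk ξ.left (congrArg CommaMorphism.left h)

variable {Z} (α : AlgGrp.Action (Red.bc q G) Z)

/-- The action seen over the base. -/
def lowAct : G ⊗ low q Z ⟶ low q Z :=
  Over.homMk (lift (lg q (snd G (low q Z) ≫ pr q Z) (fst G (low q Z)))
      (pt q Z (snd G (low q Z) ≫ pr q Z) (snd G (low q Z)) rfl) ≫ α.act).left (by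
    show _ ≫ Z.hom ≫ q = _
    rw [← Category.assoc, Over.w]
    exact Over.w (snd G (low q Z) ≫ pr q Z))

theorem lowAct_left {W : Over S₀} (u : W ⟶ Over.mk q) (g : W ⟶ G) (ξ : W ⟶ low q Z) (h : ξ ≫ pr q Z = u) :
    (lift g ξ ≫ lowAct q α).left = (lift (lg q u g) (pt q Z u ξ h) ≫ α.act).left := by
  let k : Over.mk u.left ⟶ Over.mk (snd G (low q Z) ≫ pr q Z).left :=
    Over.homMk (lift g ξ).left (congrArg CommaMorphism.left
      (show lift g ξ ≫ snd G (low q Z) ≫ pr q Z = u by rw [lift_snd_assoc, h]))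
  have e1 : k ≫ lg q (snd G (low q Z) ≫ pr q Z) (fst G (low q Z)) = lg q u g := by
    refine Over.OverMorphism.ext ?_
    apply pullback.hom_ext
    · rw [lg_fst, Over.comp_left, Category.assoc, lg_fst]
      exact congrArg CommaMorphism.left (lift_fst g ξ)
    · exact (Over.w (k ≫ lg q _ _)).trans (pullback.lift_snd _ _ _).symm
  have e2 : k ≫ pt q Z (snd G (low q Z) ≫ pr q Z) (snd G (low q Z)) rfl = pt q Z u ξ h :=
    Over.OverMorphism.ext (congrArg CommaMorphism.left (lift_snd g ξ) :)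
  rw [← e1, ← e2, ← comp_lift, Category.assoc]
  rfl

theorem lowAct_pr : lowAct q α ≫ pr q Z = snd G (low q Z) ≫ pr q Z :=
  Over.OverMorphism.ext (Over.w (lift (lg q (snd G (low q Z) ≫ pr q Z) (fst G (low q Z)))
      (pt q Z (snd G (low q Z) ≫ pr q Z) (snd G (low q Z)) rfl) ≫ α.act))

theorem lowAct_one {W : Over S₀} (ξ : W ⟶ low q Z) : lift (1 : W ⟶ G) ξ ≫ lowAct q α = ξ := by
  refine Over.OverMorphism.ext ?_
  rw [lowAct_left q α _ 1 ξ rfl, lg_one, SchTorsor.one_act_pt]
  rfl

theorem lowAct_mul {W : Over S₀} (g h : W ⟶ G) (ξ : W ⟶ low q Z) :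
    lift (g * h) ξ ≫ lowAct q α = lift g (lift h ξ ≫ lowAct q α) ≫ lowAct q α := by
  have hp : (lift h ξ ≫ lowAct q α) ≫ pr q Z = ξ ≫ pr q Z := by
    rw [Category.assoc, lowAct_pr, lift_snd_assoc]
  refine Over.OverMorphism.ext ?_
  rw [lowAct_left q α _ (g * h) ξ rfl, lowAct_left q α _ g _ hp, lg_mul, SchTorsor.act_assoc]
  congr 3
  exact Over.OverMorphism.ext (lowAct_left q α _ h ξ rfl).symm

/-- The action over the base. -/
def lowAction : AlgGrp.Action G (low q Z) where
  act := lowAct q α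
  one_act := by
    have e : η[G] ▷ low q Z = lift 1 (snd (𝟙_ (Over S₀)) (low q Z)) := by
      refine CartesianMonoidalCategory.hom_ext _ _ ?_ ?_
      · rw [whiskerRight_fst, lift_fst, Hom.one_def]
        exact congrArg (· ≫ η[G]) (toUnit_unique _ _)
      · rw [whiskerRight_snd, lift_snd]
    rw [e, lowAct_one, leftUnitor_hom]
  mul_act := by
    have e : μ[G] ▷ low q Z =
        lift ((fst _ _ ≫ fst G G) * (fst _ _ ≫ snd G G)) (snd (G ⊗ G) (low q Z)) := by
      refine CartesianMonoidalCategory.hom_ext _ _ ?_ ?_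
      · rw [whiskerRight_fst, lift_fst, Hom.mul_def, ← comp_lift, lift_fst_snd, Category.comp_id]
      · rw [whiskerRight_snd, lift_snd]
    rw [e, lowAct_mul, ← Category.assoc (α_ _ _ _).hom]
    congr 1
    refine CartesianMonoidalCategory.hom_ext _ _ ?_ ?_
    · simp
    · rw [lift_snd, Category.assoc, whiskerLeft_snd, ← Category.assoc]
      congr 1
      refine CartesianMonoidalCategory.hom_ext _ _ ?_ ?_ <;> simp

/-- The bundle of a pseudo-torsor. -/
def bunOf (hα : NonAbH1.IsPseudoTorsorSch α) : Bun G (Over.mk q) where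
  X := low q Z
  act := lowAction q α
  p := pr q Z
  act_p := lowAct_pr q α
  trans T ξ ζ h := by
    obtain ⟨g', hg⟩ := SchTorsor.exists_div hα (pt q Z _ ξ rfl) (pt q Z _ ζ h.symm)
    obtain ⟨g, rfl⟩ := lg_surjective q _ g'
    refine ⟨g, Over.OverMorphism.ext ?_⟩
    exact (lowAct_left q α _ g ζ h.symm).trans (congrArg CommaMorphism.left hg)
  free T g h ζ e := by
    refine lg_injective q (ζ ≫ pr q Z) (SchTorsor.act_free hα (y := pt q Z _ ζ rfl) (Over.OverMorphism.ext ?_))
    exact (lowAct_left q α _ g ζ rfl).symm.trans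
      ((congrArg CommaMorphism.left e).trans (lowAct_left q α _ h ζ rfl))

theorem bunOf_sm_left (hα : NonAbH1.IsPseudoTorsorSch α) {W : Over S₀} (u : W ⟶ Over.mk q) (g : W ⟶ G)
    (ξ : W ⟶ low q Z) (h : ξ ≫ pr q Z = u) :
    ((bunOf q α hα).sm g ξ).left = (lift (lg q u g) (pt q Z u ξ h) ≫ α.act).left :=
  lowAct_left q α u g ξ h

variable {T : Scheme.{u}} (v : T ⟶ U) {d : T ⟶ S₀} (hd : v ≫ q = d)

/-- The map of bases seen over the base. -/
def vbar : Over.mk d ⟶ Over.mk q := Over.homMk v hd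

/-- The action of the base-changed group on the base change. -/
def bcAct : AlgGrp.Action (Red.bc d G) (Red.bc v Z) :=
  (α.bc v).restrict (ActBC.bcCompIso v q G hd).inv

variable (Z) in
/-- A point over the base lying over `T` as a point of the base change. -/
def bpt {W : Over S₀} (t : W ⟶ Over.mk d) (ξ : W ⟶ low q Z) (h : ξ ≫ pr q Z = t ≫ vbar q v hd) :
    Over.mk t.left ⟶ Red.bc v Z :=
  Over.homMk (pullback.lift ξ.left t.left (congrArg CommaMorphism.left h)) (pullback.lift_snd _ _ _)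

omit [GrpObj G] in
theorem bpt_fst {W : Over S₀} (t : W ⟶ Over.mk d) (ξ : W ⟶ low q Z) (h : ξ ≫ pr q Z = t ≫ vbar q v hd) :
    (bpt q Z v hd t ξ h).left ≫ pullback.fst Z.hom v = ξ.left := pullback.lift_fst _ _ _

omit [GrpObj G] in
theorem bpt_ext {W : Over S₀} (t : W ⟶ Over.mk d) {m m' : Over.mk t.left ⟶ Red.bc v Z}
    (h : m.left ≫ pullback.fst Z.hom v = m'.left ≫ pullback.fst Z.hom v) : m = m' :=
  Over.OverMorphism.ext (pullback.hom_ext h ((Over.w m).trans (Over.w m').symm))

omit [GrpObj G] in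
theorem homEquiv_left_fst {Y : Over U} {W' : Over T} (f : (Over.map v).obj W' ⟶ Y) :
    ((Over.mapPullbackAdj v).homEquiv W' Y f).left ≫ pullback.fst Y.hom v = f.left := by
  simp [Over.mapPullbackAdj]

omit [GrpObj G] in
theorem bcCompIso_inv_fst (X : Over S₀) :
    (ActBC.bcCompIso v q X hd).inv.left ≫ pullback.fst _ v ≫ pullback.fst X.hom q = pullback.fst X.hom d := by
  rw [← ActBC.bcCompIso_hom_left_fst v q X hd, ← Category.assoc, ← Over.comp_left, Iso.inv_hom_id]
  exact Category.id_comp _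

theorem bcAct_pt (hα : NonAbH1.IsPseudoTorsorSch α) {W : Over S₀} (t : W ⟶ Over.mk d) (g : W ⟶ G)
    (ξ : W ⟶ low q Z) (h : ξ ≫ pr q Z = t ≫ vbar q v hd) :
    lift (lg d t g) (bpt q Z v hd t ξ h) ≫ (bcAct q α v hd).act =
      bpt q Z v hd t ((bunOf q α hα).sm g ξ) (((bunOf q α hα).sm_p g ξ).trans h) := by
  let u : W ⟶ Over.mk q := t ≫ vbar q v hd
  let g₁ : (Over.map v).obj (Over.mk t.left) ⟶ Red.bc q G :=
    Over.homMk (lg q u g).left (Over.w (lg q u g))
  let x₁ : (Over.map v).obj (Over.mk t.left) ⟶ Z := Over.homMk ξ.left (congrArg CommaMorphism.left h)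
  have e1 : lg d t g ≫ (ActBC.bcCompIso v q G hd).inv =
      (Over.mapPullbackAdj v).homEquiv (Over.mk t.left) (Red.bc q G) g₁ := by
    refine Over.OverMorphism.ext (pullback.hom_ext ?_ ((Over.w _).trans (Over.w _).symm))
    rw [homEquiv_left_fst]
    apply pullback.hom_ext
    · rw [Over.comp_left, Category.assoc, Category.assoc, bcCompIso_inv_fst, lg_fst]
      exact (lg_fst q u g).symm
    · rw [Category.assoc]
      show _ ≫ pullback.fst _ v ≫ (Red.bc q G).hom = _ ≫ (Red.bc q G).hom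
      rw [pullback.condition, ← Category.assoc]
      exact (congrArg (· ≫ v) (Over.w (lg d t g ≫ (ActBC.bcCompIso v q G hd).inv))).trans (Over.w g₁).symm
  have e2 : bpt q Z v hd t ξ h = (Over.mapPullbackAdj v).homEquiv (Over.mk t.left) Z x₁ := by
    refine bpt_ext v t ?_
    rw [bpt_fst, homEquiv_left_fst]
    rfl
  refine bpt_ext v t ?_
  rw [bcAct, AlgGrp.Action.lift_restrict_act, e1, e2, AlgGrp.Action.lift_homEquiv_bc_act, homEquiv_left_fst,
    bpt_fst, bunOf_sm_left q α hα u g ξ h]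
  rfl

end Groth.Agent.QuillenLib
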