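import Groth.Agent.QuillenLib.BunOf

/-!
# Equivariant maps of base-changed torsors as maps of fibres
-/

universe u

open CategoryTheory CategoryTheory.Limits MonoidalCategory CartesianMonoidalCategory MonObj GrpObj AlgebraicGeometry

noncomputable section

set_option backward.isDefEq.respectTransparency false
set_option backward.isDefEq.respectTransparency.types false

namespace Groth.Agent.QuillenLib

variable {S₀ U U' U'' T : Scheme.{u}} (q : U ⟶ S₀) (q' : U' ⟶ S₀) (q'' : U'' ⟶ S₀) {G : Over S₀}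
  {Z : Over U} {Z' : Over U'} {Z'' : Over U''}
  (v : T ⟶ U) (v' : T ⟶ U') (v'' : T ⟶ U'') {d : T ⟶ S₀} (hd : v ≫ q = d) (hd' : v' ≫ q' = d) (hd'' : v'' ≫ q'' = d)

/-- The map of fibres of a map of base changes. -/
def push (f : Red.bc v Z ⟶ Red.bc v' Z') {W : Over S₀} (t : W ⟶ Over.mk d) (ξ : W ⟶ low q Z)
    (h : ξ ≫ pr q Z = t ≫ vbar q v hd) : W ⟶ low q' Z' :=
  Over.homMk ((bpt q Z v hd t ξ h ≫ f).left ≫ pullback.fst Z'.hom v') (by
    show _ ≫ Z'.hom ≫ q' = _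
    rw [Category.assoc, pullback.condition_assoc, hd', ← Category.assoc]
    exact (congrArg (· ≫ d) (Over.w (bpt q Z v hd t ξ h ≫ f))).trans (Over.w t))

theorem push_pr (f : Red.bc v Z ⟶ Red.bc v' Z') {W : Over S₀} (t : W ⟶ Over.mk d) (ξ : W ⟶ low q Z)
    (h : ξ ≫ pr q Z = t ≫ vbar q v hd) : push q q' v v' hd hd' f t ξ h ≫ pr q' Z' = t ≫ vbar q' v' hd' := by
  refine Over.OverMorphism.ext ?_
  show ((bpt q Z v hd t ξ h ≫ f).left ≫ pullback.fst Z'.hom v') ≫ Z'.hom = t.left ≫ v'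
  rw [Category.assoc, pullback.condition, ← Category.assoc]
  exact congrArg (· ≫ v') (Over.w (bpt q Z v hd t ξ h ≫ f))

theorem bpt_push (f : Red.bc v Z ⟶ Red.bc v' Z') {W : Over S₀} (t : W ⟶ Over.mk d) (ξ : W ⟶ low q Z)
    (h : ξ ≫ pr q Z = t ≫ vbar q v hd) :
    bpt q' Z' v' hd' t (push q q' v v' hd hd' f t ξ h) (push_pr q q' v v' hd hd' f t ξ h) =
      bpt q Z v hd t ξ h ≫ f :=
  bpt_ext v' t (bpt_fst q' v' hd' t _ _)

theorem push_nat (f : Red.bc v Z ⟶ Red.bc v' Z') {W W' : Over S₀} (k : W' ⟶ W) (t : W ⟶ Over.mk d)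
    (ξ : W ⟶ low q Z) (h : ξ ≫ pr q Z = t ≫ vbar q v hd) :
    k ≫ push q q' v v' hd hd' f t ξ h =
      push q q' v v' hd hd' f (k ≫ t) (k ≫ ξ) (by rw [Category.assoc, h, Category.assoc]) := by
  let k' : Over.mk (k ≫ t).left ⟶ Over.mk t.left := Over.homMk k.left rfl
  have e : k' ≫ bpt q Z v hd t ξ h = bpt q Z v hd (k ≫ t) (k ≫ ξ) (by rw [Category.assoc, h, Category.assoc]) := by
    refine bpt_ext v (k ≫ t) ?_
    show (k.left ≫ (bpt q Z v hd t ξ h).left) ≫ pullback.fst Z.hom v = _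
    rw [Category.assoc, bpt_fst, bpt_fst]
    rfl
  refine Over.OverMorphism.ext ?_
  show k.left ≫ (bpt q Z v hd t ξ h ≫ f).left ≫ pullback.fst Z'.hom v' = _
  show _ = (bpt q Z v hd (k ≫ t) (k ≫ ξ) _ ≫ f).left ≫ pullback.fst Z'.hom v'
  rw [← e]
  simp [k']

theorem push_congr (f : Red.bc v Z ⟶ Red.bc v' Z') {W : Over S₀} {t t' : W ⟶ Over.mk d} {ξ ξ' : W ⟶ low q Z}
    (ht : t = t') (hξ : ξ = ξ') (h : ξ ≫ pr q Z = t ≫ vbar q v hd) (h' : ξ' ≫ pr q Z = t' ≫ vbar q v hd) :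
    push q q' v v' hd hd' f t ξ h = push q q' v v' hd hd' f t' ξ' h' := by
  subst ht hξ; rfl

theorem push_comp (f : Red.bc v Z ⟶ Red.bc v' Z') (g : Red.bc v' Z' ⟶ Red.bc v'' Z'') {W : Over S₀}
    (t : W ⟶ Over.mk d) (ξ : W ⟶ low q Z) (h : ξ ≫ pr q Z = t ≫ vbar q v hd) :
    push q' q'' v' v'' hd' hd'' g t (push q q' v v' hd hd' f t ξ h) (push_pr q q' v v' hd hd' f t ξ h) =
      push q q'' v v'' hd hd'' (f ≫ g) t ξ h := by
  refine Over.OverMorphism.ext ?_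
  show (bpt q' Z' v' hd' t _ _ ≫ g).left ≫ pullback.fst Z''.hom v'' = _
  rw [bpt_push, Category.assoc]
  rfl

theorem push_id {W : Over S₀} (t : W ⟶ Over.mk d) (ξ : W ⟶ low q Z) (h : ξ ≫ pr q Z = t ≫ vbar q v hd) :
    push q q v v hd hd (𝟙 (Red.bc v Z)) t ξ h = ξ := by
  refine Over.OverMorphism.ext ?_
  show (bpt q Z v hd t ξ h ≫ 𝟙 _).left ≫ pullback.fst Z.hom v = ξ.left
  rw [Category.comp_id, bpt_fst]

section Equivariant

variable [GrpObj G] {α : AlgGrp.Action (Red.bc q G) Z} {α' : AlgGrp.Action (Red.bc q' G) Z'}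
  (hα : NonAbH1.IsPseudoTorsorSch α) (hα' : NonAbH1.IsPseudoTorsorSch α')

theorem push_sm (f : Red.bc v Z ⟶ Red.bc v' Z')
    (hf : (bcAct q α v hd).act ≫ f = (Red.bc d G ◁ f) ≫ (bcAct q' α' v' hd').act)
    {W : Over S₀} (t : W ⟶ Over.mk d) (g : W ⟶ G) (ξ : W ⟶ low q Z) (h : ξ ≫ pr q Z = t ≫ vbar q v hd) :
    push q q' v v' hd hd' f t ((bunOf q α hα).sm g ξ) (((bunOf q α hα).sm_p g ξ).trans h) =
      (bunOf q' α' hα').sm g (push q q' v v' hd hd' f t ξ h) := by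
  have h' := push_pr q q' v v' hd hd' f t ξ h
  have e : bpt q Z v hd t ((bunOf q α hα).sm g ξ) (((bunOf q α hα).sm_p g ξ).trans h) ≫ f =
      bpt q' Z' v' hd' t ((bunOf q' α' hα').sm g (push q q' v v' hd hd' f t ξ h))
        (((bunOf q' α' hα').sm_p g _).trans h') := by
    rw [← bcAct_pt q α v hd hα t g ξ h, Category.assoc, hf, lift_whiskerLeft_assoc,
      ← bpt_push q q' v v' hd hd' f t ξ h, bcAct_pt q' α' v' hd' hα' t g _ h']
  refine Over.OverMorphism.ext ?_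
  show (bpt q Z v hd t _ _ ≫ f).left ≫ pullback.fst Z'.hom v' = _
  rw [e, bpt_fst]

/-- A natural equivariant map of fibres comes from an equivariant map of base changes. -/
theorem exists_ofPts
    (F : ∀ ⦃W : Over S₀⦄ (t : W ⟶ Over.mk d) (ξ : W ⟶ low q Z), ξ ≫ pr q Z = t ≫ vbar q v hd → (W ⟶ low q' Z'))
    (hF : ∀ ⦃W : Over S₀⦄ (t : W ⟶ Over.mk d) (ξ : W ⟶ low q Z) (h : ξ ≫ pr q Z = t ≫ vbar q v hd),
      F t ξ h ≫ pr q' Z' = t ≫ vbar q' v' hd')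
    (hnat : ∀ ⦃W W' : Over S₀⦄ (k : W' ⟶ W) (t : W ⟶ Over.mk d) (ξ : W ⟶ low q Z)
      (h : ξ ≫ pr q Z = t ≫ vbar q v hd),
      k ≫ F t ξ h = F (k ≫ t) (k ≫ ξ) (by rw [Category.assoc, h, Category.assoc]))
    (hsm : ∀ ⦃W : Over S₀⦄ (t : W ⟶ Over.mk d) (g : W ⟶ G) (ξ : W ⟶ low q Z)
      (h : ξ ≫ pr q Z = t ≫ vbar q v hd),
      F t ((bunOf q α hα).sm g ξ) (((bunOf q α hα).sm_p g ξ).trans h) = (bunOf q' α' hα').sm g (F t ξ h)) :
    ∃ f : Red.bc v Z ⟶ Red.bc v' Z',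
      (bcAct q α v hd).act ≫ f = (Red.bc d G ◁ f) ≫ (bcAct q' α' v' hd').act := by
  -- the generic point of the base change
  let t₀ : low d (Red.bc v Z) ⟶ Over.mk d := pr d (Red.bc v Z)
  let ξ₀ : low d (Red.bc v Z) ⟶ low q Z := Over.homMk (pullback.fst Z.hom v) (by
    show pullback.fst Z.hom v ≫ Z.hom ≫ q = pullback.snd Z.hom v ≫ d
    rw [pullback.condition_assoc, hd])
  have h₀ : ξ₀ ≫ pr q Z = t₀ ≫ vbar q v hd := Over.OverMorphism.ext pullback.condition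
  let f : Red.bc v Z ⟶ Red.bc v' Z' := bpt q' Z' v' hd' t₀ (F t₀ ξ₀ h₀) (hF t₀ ξ₀ h₀)
  have hpt : ∀ ⦃W : Over S₀⦄ (t : W ⟶ Over.mk d) (ξ : W ⟶ low q Z) (h : ξ ≫ pr q Z = t ≫ vbar q v hd),
      bpt q Z v hd t ξ h ≫ f = bpt q' Z' v' hd' t (F t ξ h) (hF t ξ h) := by
    intro W t ξ h
    let k : W ⟶ low d (Red.bc v Z) := Over.homMk (bpt q Z v hd t ξ h).left (by
      show _ ≫ (Red.bc v Z).hom ≫ d = _
      rw [← Category.assoc]
      exact (congrArg (· ≫ d) (Over.w (bpt q Z v hd t ξ h))).trans (Over.w t))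
    have hk1 : k ≫ t₀ = t := Over.OverMorphism.ext (Over.w (bpt q Z v hd t ξ h))
    have hk2 : k ≫ ξ₀ = ξ := Over.OverMorphism.ext (bpt_fst q v hd t ξ h)
    refine bpt_ext v' t ?_
    rw [bpt_fst]
    show ((bpt q Z v hd t ξ h).left ≫ f.left) ≫ _ = _
    rw [Category.assoc]
    show (bpt q Z v hd t ξ h).left ≫ f.left ≫ _ = _
    rw [show f.left ≫ pullback.fst Z'.hom v' = (F t₀ ξ₀ h₀).left from bpt_fst q' v' hd' t₀ _ _]
    show k.left ≫ (F t₀ ξ₀ h₀).left = _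
    rw [← Over.comp_left, hnat]
    congr 2
  refine ⟨f, ?_⟩
  -- equivariance at the generic point
  let M := Red.bc d G ⊗ Red.bc v Z
  let t : low d M ⟶ Over.mk d := pr d M
  obtain ⟨g, hg⟩ := lg_surjective d t (show Over.mk t.left ⟶ Red.bc d G from fst (Red.bc d G) (Red.bc v Z))
  let b : Over.mk t.left ⟶ Red.bc v Z := snd (Red.bc d G) (Red.bc v Z)
  let ξ : low d M ⟶ low q Z := Over.homMk (b.left ≫ pullback.fst Z.hom v) (by
    show _ ≫ Z.hom ≫ q = M.hom ≫ d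
    rw [Category.assoc, pullback.condition_assoc, hd, ← Category.assoc]
    exact congrArg (· ≫ d) (Over.w b))
  have h : ξ ≫ pr q Z = t ≫ vbar q v hd := by
    refine Over.OverMorphism.ext ?_
    show (b.left ≫ pullback.fst Z.hom v) ≫ Z.hom = M.hom ≫ v
    rw [Category.assoc, pullback.condition, ← Category.assoc]
    exact congrArg (· ≫ v) (Over.w b)
  have hb : bpt q Z v hd t ξ h = b := bpt_ext v t (bpt_fst q v hd t ξ h)
  have key : lift (lg d t g) (bpt q Z v hd t ξ h) ≫ (bcAct q α v hd).act ≫ f =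
      lift (lg d t g) (bpt q Z v hd t ξ h) ≫ (Red.bc d G ◁ f) ≫ (bcAct q' α' v' hd').act := by
    rw [← Category.assoc, bcAct_pt q α v hd hα t g ξ h, hpt, lift_whiskerLeft_assoc, hpt,
      bcAct_pt q' α' v' hd' hα' t g]
    congr 1
    exact hsm t g ξ h
  rw [hg, hb] at key
  simpa using (show lift (fst (Red.bc d G) (Red.bc v Z)) (snd (Red.bc d G) (Red.bc v Z)) ≫
      (bcAct q α v hd).act ≫ f = lift (fst (Red.bc d G) (Red.bc v Z)) (snd (Red.bc d G) (Red.bc v Z)) ≫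
      (Red.bc d G ◁ f) ≫ (bcAct q' α' v' hd').act from key)

end Equivariant

end Groth.Agent.QuillenLib
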