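import Groth.Agent.QuillenLib.Patch

/-!
# Patching of points subject to a cocycle condition

For two maps `i j : P → Q` and a point `c` of a group over `Q`, the points `g` over `P` with
`i^* g · c = c · j^* g` form a subgroup; patching of points vanishing at zero works inside it.
-/

universe u

open CategoryTheory Limits AlgebraicGeometry Opposite Polynomial MonObj

noncomputable section

namespace Groth.Agent.QuillenLib

variable {R : Type u} [CommRing R] {P Q P' Q' : Type u} [CommRing P] [CommRing Q] [CommRing P'] [CommRing Q']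
  [Algebra R P] [Algebra R Q] [Algebra R P'] [Algebra R Q'] {G : Over (Spec (CommRingCat.of R))}

theorem om_map_comp {A B C : Type u} [CommRing A] [CommRing B] [CommRing C] [Algebra R A] [Algebra R B]
    [Algebra R C] (ψ : B →ₐ[R] C) (φ : A →ₐ[R] B) :
    (mapAlgHom ψ).comp (mapAlgHom φ) = mapAlgHom (ψ.comp φ) :=
  polyHom_ext (fun a => by simp) (by simp)

theorem scale_comp_map {A B : Type u} [CommRing A] [CommRing B] [Algebra R A] [Algebra R B] (φ : A →ₐ[R] B) (c : R) :
    (scale R c).comp (mapAlgHom φ) = (mapAlgHom φ).comp (scale R c) :=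
  AlgHom.ext fun p => scale_map φ c p

theorem scale_comp_scale {A : Type u} [CommRing A] [Algebra R A] (c d : R) :
    (scale R c).comp (scale (P := A) R d) = scale R (c * d) :=
  AlgHom.ext fun p => scale_scale c d p

theorem scale_comp_cst {A : Type u} [CommRing A] [Algebra R A] (c : R) :
    (scale R c).comp (cst R A) = cst R A :=
  AlgHom.ext fun a => by simp [cst, scale]

variable [GrpObj G]

/-- The cocycle condition. -/
def Cond (i j : P →ₐ[R] Q) (c : O R Q ⟶ G) (g : O R P ⟶ G) : Prop :=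
  (om i ≫ g) * c = c * (om j ≫ g)

theorem cond_one (i j : P →ₐ[R] Q) (c : O R Q ⟶ G) : Cond i j c 1 := by
  rw [Cond, MonObj.comp_one, MonObj.comp_one, _root_.one_mul, _root_.mul_one]

theorem Cond.mul {i j : P →ₐ[R] Q} {c : O R Q ⟶ G} {g g' : O R P ⟶ G} (h : Cond i j c g) (h' : Cond i j c g') :
    Cond i j c (g * g') := by
  rw [Cond, MonObj.comp_mul, MonObj.comp_mul, _root_.mul_assoc, show (om i ≫ g') * c = _ from h', ← _root_.mul_assoc,
    show (om i ≫ g) * c = _ from h, _root_.mul_assoc]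

theorem Cond.inv {i j : P →ₐ[R] Q} {c : O R Q ⟶ G} {g : O R P ⟶ G} (h : Cond i j c g) : Cond i j c g⁻¹ := by
  rw [Cond, GrpObj.comp_inv, GrpObj.comp_inv, eq_mul_inv_iff_mul_eq, _root_.mul_assoc,
    show c * (om j ≫ g) = _ from h.symm, inv_mul_cancel_left]

theorem Cond.map {i j : P →ₐ[R] Q} {c : O R Q ⟶ G} {g : O R P ⟶ G} (h : Cond i j c g)
    (σ : P →ₐ[R] P') (τ : Q →ₐ[R] Q') (i' j' : P' →ₐ[R] Q') (hi : i'.comp σ = τ.comp i) (hj : j'.comp σ = τ.comp j) :
    Cond i' j' (om τ ≫ c) (om σ ≫ g) := by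
  rw [Cond, ← Category.assoc, ← Category.assoc, ← om_comp, ← om_comp, hi, hj, om_comp, om_comp, Category.assoc,
    Category.assoc, ← MonObj.comp_mul, ← MonObj.comp_mul]
  exact congrArg (om τ ≫ ·) h

/-- The constant point on the polynomials. -/
abbrev cX (c : O R Q ⟶ G) : O R Q[X] ⟶ G := om (cst R Q) ≫ c

variable [LocallyOfFinitePresentation G.hom] {A B : Type u} [CommRing A] [CommRing B] [Algebra R A] [Algebra R B]
  {φ : A →ₐ[R] B} {r : R}

/-- Scaled points descend, with prescribed value at zero. -/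
theorem exists_descend_ev0 (h : IsLocAt φ r)
    (g : O R B[X] ⟶ G) (a : O R A ⟶ G) (hga : om (ev0 R B) ≫ g = om φ ≫ a) :
    ∃ (N : ℕ) (gA : O R A[X] ⟶ G),
      om (mapAlgHom φ) ≫ gA = om (scale R (r ^ N)) ≫ g ∧ om (ev0 R A) ≫ gA = a := by
  obtain ⟨x, hxB, hxA⟩ := exists_hom_pinch (ev0 R B).toRingHom φ.toRingHom G.left (fun b => ⟨C b, by simp [ev0]⟩)
    g.left a.left (congrArg (fun m => m.left) hga)
  let D : Idx.{u}ᵒᵖ ⥤ Scheme.{u} := (sysF A r).op ⋙ Scheme.Spec
  let c : Cone D := Scheme.Spec.mapCone (stageCocone h).op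
  have hc : IsLimit c := isLimitOfPreserves Scheme.Spec (stageColimit h).op
  let t : D ⟶ (Functor.const _).obj (Spec (CommRingCat.of R)) :=
    { app := fun i => Spec.map (CommRingCat.ofHom (algebraMap R A[X]))
      naturality := fun i j f => by
        show Spec.map _ ≫ Spec.map _ = Spec.map _ ≫ 𝟙 _
        rw [Category.comp_id, ← Spec.map_comp]
        congr 1
        refine CommRingCat.hom_ext (RingHom.ext fun c => ?_)
        exact (scale R (P := A) _).commutes c }
  have : ∀ {i j : Idx.{u}ᵒᵖ} (f : i ⟶ j), IsAffineHom (D.map f) := fun {i j} f =>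
    inferInstanceAs (IsAffineHom (Spec.map _))
  have : ∀ i, CompactSpace (D.obj i) := fun i => inferInstanceAs (CompactSpace (Spec _))
  have : ∀ i, QuasiSeparatedSpace (D.obj i) := fun i => inferInstanceAs (QuasiSeparatedSpace (Spec _))
  have hx : ∀ i : Idx.{u}ᵒᵖ, c.π.app i ≫ t.app i = x ≫ G.hom := by
    intro i
    show Spec.map (CommRingCat.ofHom (stage h i.unop.down)) ≫ Spec.map (CommRingCat.ofHom (algebraMap R A[X])) = x ≫ G.hom
    rw [← specMap_comp]
    refine hom_ext_pair (toB (ev0 R B).toRingHom φ.toRingHom) (toA (ev0 R B).toRingHom φ.toRingHom)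
      (fun z h1 h2 => pinch_ext _ _ (h1.trans (map_zero _).symm) (h2.trans (map_zero _).symm))
      (pinch_surjective _ _ (fun b => ⟨C b, by simp [ev0]⟩)) _ _ ?_ ?_
    · rw [← Category.assoc, hxB, ← specMap_comp, Over.w g]
      congr 2
      refine RingHom.ext fun c => ?_
      show h.down _ (mapAlgHom φ (algebraMap R A[X] c)) = algebraMap R B[X] c
      rw [AlgHom.commutes, AlgHom.commutes]
    · rw [← Category.assoc, hxA, ← specMap_comp, Over.w a]
      congr 2
      refine RingHom.ext fun c => ?_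
      show ev0 R A (algebraMap R A[X] c) = algebraMap R A c
      rw [AlgHom.commutes]
  obtain ⟨i, gA, h1, h2⟩ := Scheme.exists_π_app_comp_eq_of_locallyOfFinitePresentation D t G.hom c hc x
    (NatTrans.ext (funext fun i => hx i))
  refine ⟨i.unop.down, Over.homMk gA h2, ?_, ?_⟩
  · refine Over.OverMorphism.ext ?_
    show Spec.map (CommRingCat.ofHom (mapAlgHom φ).toRingHom) ≫ gA =
      Spec.map (CommRingCat.ofHom (scale R (P := B) (r ^ i.unop.down)).toRingHom) ≫ g.left
    have e : (mapAlgHom φ).toRingHom = (scale R (P := B) (r ^ i.unop.down)).toRingHom.comp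
        ((toB (ev0 R B).toRingHom φ.toRingHom).comp (stage h i.unop.down)) :=
      RingHom.ext fun p => (h.scale_down _ (mapAlgHom φ p)).symm
    rw [e, specMap_comp, specMap_comp, ← hxB, ← h1]
    simp only [Category.assoc]
    rfl
  · refine Over.OverMorphism.ext ?_
    show Spec.map (CommRingCat.ofHom (ev0 R A).toRingHom) ≫ gA = a.left
    rw [show (ev0 R A).toRingHom = (toA (ev0 R B).toRingHom φ.toRingHom).comp (stage h i.unop.down) from rfl,
      specMap_comp, Category.assoc, ← hxA, ← h1]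
    rfl

/-- Two points with the same value at zero and over the localisation agree after scaling. -/
theorem exists_scale_eq (h : IsLocAt φ r) (q₁ q₂ : O R A[X] ⟶ G)
    (h0 : om (ev0 R A) ≫ q₁ = om (ev0 R A) ≫ q₂) (hφ : om (mapAlgHom φ) ≫ q₁ = om (mapAlgHom φ) ≫ q₂) :
    ∃ M : ℕ, om (scale R (r ^ M)) ≫ q₁ = om (scale R (r ^ M)) ≫ q₂ := by
  let D : Idx.{u}ᵒᵖ ⥤ Scheme.{u} := (sysF A r).op ⋙ Scheme.Spec
  let c : Cone D := Scheme.Spec.mapCone (stageCocone h).op
  have hc : IsLimit c := isLimitOfPreserves Scheme.Spec (stageColimit h).op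
  let t : D ⟶ (Functor.const _).obj (Spec (CommRingCat.of R)) :=
    { app := fun i => Spec.map (CommRingCat.ofHom (algebraMap R A[X]))
      naturality := fun i j f => by
        show Spec.map _ ≫ Spec.map _ = Spec.map _ ≫ 𝟙 _
        rw [Category.comp_id, ← Spec.map_comp]
        congr 1
        refine CommRingCat.hom_ext (RingHom.ext fun c => ?_)
        exact (scale R (P := A) _).commutes c }
  have : ∀ {i j : Idx.{u}ᵒᵖ} (f : i ⟶ j), IsAffineHom (D.map f) := fun {i j} f =>
    inferInstanceAs (IsAffineHom (Spec.map _))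
  have : ∀ i, CompactSpace (D.obj i) := fun i => inferInstanceAs (CompactSpace (Spec _))
  have : ∀ i, QuasiSeparatedSpace (D.obj i) := fun i => inferInstanceAs (QuasiSeparatedSpace (Spec _))
  let i₀ : Idx.{u}ᵒᵖ := op ⟨0⟩
  have hB : (toB (ev0 R B).toRingHom φ.toRingHom).comp (stage h 0) = (mapAlgHom φ).toRingHom :=
    RingHom.ext fun p => by
      show h.down 0 (mapAlgHom φ p) = mapAlgHom φ p
      simp [IsLocAt.down, Polynomial.aeval_X_left_apply]
  have hA : (toA (ev0 R B).toRingHom φ.toRingHom).comp (stage h 0) = (ev0 R A).toRingHom := rfl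
  have hab : c.π.app i₀ ≫ q₁.left = c.π.app i₀ ≫ q₂.left := by
    show Spec.map (CommRingCat.ofHom (stage h 0)) ≫ q₁.left = Spec.map (CommRingCat.ofHom (stage h 0)) ≫ q₂.left
    refine hom_ext_pair (toB (ev0 R B).toRingHom φ.toRingHom) (toA (ev0 R B).toRingHom φ.toRingHom)
      (fun z h1 h2 => pinch_ext _ _ (h1.trans (map_zero _).symm) (h2.trans (map_zero _).symm))
      (pinch_surjective _ _ (fun b => ⟨C b, by simp [ev0]⟩)) _ _ ?_ ?_
    · rw [← Category.assoc, ← Category.assoc, ← specMap_comp, hB]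
      exact congrArg (fun m => m.left) hφ
    · rw [← Category.assoc, ← Category.assoc, ← specMap_comp, hA]
      exact congrArg (fun m => m.left) h0
  obtain ⟨k, hik, he⟩ := Scheme.exists_hom_comp_eq_comp_of_locallyOfFiniteType D t G.hom c hc
    (i := i₀) q₁.left q₂.left (Over.w q₁).symm (Over.w q₂).symm hab
  exact ⟨k.unop.down - 0, Over.OverMorphism.ext he⟩

variable {A₂ B₂ : Type u} [CommRing A₂] [CommRing B₂] [Algebra R A₂] [Algebra R B₂] {φ₂ : A₂ →ₐ[R] B₂}
  {i j : A →ₐ[R] A₂} {i' j' : B →ₐ[R] B₂}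

/-- Scaled points with the condition descend to points with the condition. -/
theorem exists_descend_cond (h : IsLocAt φ r) (h₂ : IsLocAt φ₂ r) (hi : i'.comp φ = φ₂.comp i)
    (hj : j'.comp φ = φ₂.comp j) (c : O R A₂ ⟶ G) (g : O R B[X] ⟶ G) (hg0 : om (ev0 R B) ≫ g = 1)
    (hg : Cond (mapAlgHom i') (mapAlgHom j') (cX (om φ₂ ≫ c)) g) :
    ∃ (N : ℕ) (gA : O R A[X] ⟶ G), om (ev0 R A) ≫ gA = 1 ∧ Cond (mapAlgHom i) (mapAlgHom j) (cX c) gA ∧
      om (mapAlgHom φ) ≫ gA = om (scale R (r ^ N)) ≫ g := by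
  obtain ⟨N, gA, hgA, hgA0⟩ := exists_descend_ev0 h g 1 (by rw [hg0, MonObj.comp_one])
  have ei : om (mapAlgHom φ₂) ≫ om (mapAlgHom i) = om (mapAlgHom i') ≫ om (mapAlgHom φ) := by
    rw [← om_comp, ← om_comp, om_map_comp, om_map_comp, hi]
  have ej : om (mapAlgHom φ₂) ≫ om (mapAlgHom j) = om (mapAlgHom j') ≫ om (mapAlgHom φ) := by
    rw [← om_comp, ← om_comp, om_map_comp, om_map_comp, hj]
  have ec : om (mapAlgHom φ₂) ≫ cX c = cX (om φ₂ ≫ c) := by
    rw [← Category.assoc, ← om_comp, map_comp_cst, om_comp, Category.assoc]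
  have ecs : ∀ (d : R), om (scale R d) ≫ cX (om φ₂ ≫ c) = cX (om φ₂ ≫ c) := fun d => by
    rw [← Category.assoc, ← om_comp, scale_comp_cst]
  have eis : ∀ (k : B →ₐ[R] B₂) (d : R),
      om (mapAlgHom k) ≫ om (scale (P := B) R d) = om (scale R d) ≫ om (mapAlgHom k) := fun k d => by
    rw [← om_comp, ← om_comp, scale_comp_map]
  obtain ⟨M, hM⟩ := exists_scale_eq h₂ ((om (mapAlgHom i) ≫ gA) * cX c) (cX c * (om (mapAlgHom j) ≫ gA)) (by
      simp only [MonObj.comp_mul, ← Category.assoc, ← om_comp, ev0_comp_map, ev0_comp_cst, om_id, Category.id_comp]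
      simp only [om_comp, Category.assoc, hgA0, MonObj.comp_one, _root_.one_mul, _root_.mul_one]) (by
      rw [MonObj.comp_mul, MonObj.comp_mul, ec, ← Category.assoc, ei, ← Category.assoc (om (mapAlgHom φ₂)), ej,
        Category.assoc, Category.assoc, hgA, ← Category.assoc, ← Category.assoc, eis, eis, Category.assoc,
        Category.assoc, ← ecs, ← MonObj.comp_mul, ← MonObj.comp_mul]
      exact congrArg (om (scale R (r ^ N)) ≫ ·) hg)
  refine ⟨N + M, om (scale R (r ^ M)) ≫ gA, ?_, ?_, ?_⟩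
  · rw [← Category.assoc, ← om_comp, ev0_comp_scale, hgA0]
  · rw [Cond, ← Category.assoc, ← Category.assoc, ← om_comp, ← om_comp, ← scale_comp_map, ← scale_comp_map,
      om_comp, om_comp, Category.assoc, Category.assoc]
    have hc : om (scale R (r ^ M)) ≫ cX c = cX c := by
      rw [← Category.assoc, ← om_comp, scale_comp_cst]
    rw [← hc, ← MonObj.comp_mul, ← MonObj.comp_mul]
    exact hM
  · rw [← Category.assoc, ← om_comp, ← scale_comp_map, om_comp, Category.assoc, hgA, ← Category.assoc, ← om_comp,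
      scale_comp_scale, ← pow_add, Nat.add_comm]

variable {A' A₂' : Type u} [CommRing A'] [CommRing A₂'] [Algebra R A'] [Algebra R A₂'] {φ' : A' →ₐ[R] B}
  {φ₂' : A₂' →ₐ[R] B₂} {r' : R} {i'' j'' : A' →ₐ[R] A₂'}

theorem comp_lin {S T : Type u} [CommRing S] [CommRing T] [Algebra R S] [Algebra R T] (ψ : S →ₐ[R] T) (d : R) :
    (lin R T d).comp (mapAlgHom ψ) = (mapAlgHom (mapAlgHom (mapAlgHom ψ))).comp (lin R S d) := by
  refine polyHom_ext (P := S) (Q := T[X][X][X]) (fun b => ?_) ?_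
  · simp [lin]
  · simp [lin, ψ.commutes]

/-- Patching inside the subgroup of points with the condition. -/
theorem exists_patch_cond (hA : IsLocAt φ r') (hA₂ : IsLocAt φ₂ r') (hA' : IsLocAt φ' r) (hA₂' : IsLocAt φ₂' r)
    (hi : i'.comp φ = φ₂.comp i) (hj : j'.comp φ = φ₂.comp j)
    (hi' : i'.comp φ' = φ₂'.comp i'') (hj' : j'.comp φ' = φ₂'.comp j'')
    (c : O R A₂ ⟶ G) (c' : O R A₂' ⟶ G) (cB : O R B₂ ⟶ G) (hc : om φ₂ ≫ c = cB) (hc' : om φ₂' ≫ c' = cB)
    (S : Set R) (hS : ∀ N M : ℕ, ∃ a b : R, r ^ N * a + r' ^ M * b ∈ S)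
    (g : O R B[X] ⟶ G) (hg : om (ev0 R B) ≫ g = 1) (hcond : Cond (mapAlgHom i') (mapAlgHom j') (cX cB) g) :
    ∃ d ∈ S, ∃ (g₁ : O R A[X] ⟶ G) (g₂ : O R A'[X] ⟶ G), Cond (mapAlgHom i) (mapAlgHom j) (cX c) g₁ ∧
      Cond (mapAlgHom i'') (mapAlgHom j'') (cX c') g₂ ∧
      om (scale R d) ≫ g = (om (mapAlgHom φ) ≫ g₁) * (om (mapAlgHom φ') ≫ g₂) := by
  -- the scalings
  obtain ⟨N, gN, -, hN2, hN3⟩ := exists_descend_cond hA' hA₂' hi' hj' c' g hg (by rw [hc']; exact hcond)
  -- the differences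
  let dd : O R B[X][X][X] ⟶ G := (om (lin R B 1) ≫ g) * (om (lin R B 0) ≫ g)⁻¹
  have hd : om (ev0 R B[X][X]) ≫ dd = 1 := by
    rw [MonObj.comp_mul, GrpObj.comp_inv, ← Category.assoc, ← Category.assoc, ← om_comp, ← om_comp, ev0_lin,
      mul_inv_cancel]
  have hlin : ∀ e : R, Cond (mapAlgHom (mapAlgHom (mapAlgHom i'))) (mapAlgHom (mapAlgHom (mapAlgHom j')))
      (cX (cX (cX cB))) (om (P := B[X]) (Q := B[X][X][X]) (lin R B e) ≫ g) := fun e => by
    have h1 := hcond.map (P' := B[X][X][X]) (Q' := B₂[X][X][X]) (lin R B e) (lin R B₂ e) _ _ (comp_lin i' e).symm (comp_lin j' e).symm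
    have h2 : om (lin R B₂ e) ≫ cX cB = cX (cX (cX cB)) := by
      simp only [← Category.assoc, ← om_comp]
      congr 2
      exact AlgHom.ext fun b => by simp [lin, cst]
    rwa [h2] at h1
  obtain ⟨M, dA, -, hM2, hM3⟩ := exists_descend_cond (i := mapAlgHom (mapAlgHom i)) (j := mapAlgHom (mapAlgHom j))
    (i' := mapAlgHom (mapAlgHom i')) (j' := mapAlgHom (mapAlgHom j')) hA.poly.poly hA₂.poly.poly
    (by rw [om_map_comp, om_map_comp, om_map_comp, om_map_comp, hi])
    (by rw [om_map_comp, om_map_comp, om_map_comp, om_map_comp, hj]) (cX (cX c)) dd hd (by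
      have hcc : om (mapAlgHom (mapAlgHom φ₂)) ≫ cX (cX c) = cX (cX cB) := by
        rw [← hc]
        simp only [← Category.assoc, ← om_comp, map_comp_cst, AlgHom.comp_assoc]
        congr 2
        exact AlgHom.ext fun z => by simp [cst]
      rw [hcc]
      exact (hlin 1).mul (hlin 0).inv)
  obtain ⟨a, b, hab⟩ := hS N M
  refine ⟨_, hab, om (spec R A (r ^ N * a) b) ≫ dA, om (scale R a) ≫ gN, ?_, ?_, ?_⟩
  · have h1 := hM2.map (spec R A (r ^ N * a) b) (spec R A₂ (r ^ N * a) b) _ _ (spec_map i _ _).symm (spec_map j _ _).symm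
    have h2 : om (spec R A₂ (r ^ N * a) b) ≫ cX (cX (cX c)) = cX c := by
      simp only [← Category.assoc, ← om_comp]
      congr 2
      exact AlgHom.ext fun z => by simp [spec, cst]
    rwa [h2] at h1
  · have h1 := hN2.map (scale R a) (scale R a) _ _ (scale_comp_map i'' a).symm (scale_comp_map j'' a).symm
    have h2 : om (scale R a) ≫ cX c' = cX c' := by rw [← Category.assoc, ← om_comp, scale_comp_cst]
    rwa [h2] at h1
  · have e1 : om (mapAlgHom φ) ≫ om (spec R A (r ^ N * a) b) ≫ dA =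
        (om (scale R (r ^ N * a + r' ^ M * b)) ≫ g) * (om (scale R (r ^ N * a)) ≫ g)⁻¹ := by
      have key : om (mapAlgHom φ) ≫ om (spec R A (r ^ N * a) b) =
          om (spec R B (r ^ N * a) b) ≫ om (P := A[X][X][X]) (Q := B[X][X][X]) (mapAlgHom (mapAlgHom (mapAlgHom φ))) := by
        rw [← om_comp, ← om_comp, spec_map]
      rw [← Category.assoc, key, Category.assoc]
      erw [hM3]
      rw [MonObj.comp_mul, GrpObj.comp_inv, MonObj.comp_mul, GrpObj.comp_inv]
      simp only [← Category.assoc, ← om_comp]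
      rw [← AlgHom.comp_assoc, ← AlgHom.comp_assoc]
      simp only [AlgHom.comp_assoc, scale_lin, spec_lin, _root_.mul_one, mul_zero, zero_mul, add_zero]
    have e2 : om (mapAlgHom φ') ≫ om (scale R a) ≫ gN = om (scale R (r ^ N * a)) ≫ g := by
      rw [← Category.assoc, ← om_comp, ← scale_comp_map, om_comp, Category.assoc, hN3, ← Category.assoc, ← om_comp,
        scale_comp_scale, mul_comm]
    rw [e1, e2, inv_mul_cancel_right]

end Groth.Agent.QuillenLib
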