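import Groth.Agent.QuillenLib.Desc

/-!
# The fibre of the bundle of a torsor at a section
-/

universe u

open CategoryTheory CategoryTheory.Limits MonoidalCategory CartesianMonoidalCategory MonObj GrpObj AlgebraicGeometry

noncomputable section

set_option backward.isDefEq.respectTransparency false
set_option backward.isDefEq.respectTransparency.types false

namespace Groth.Agent.QuillenLib

variable {S A : Scheme.{u}} {G : Over S} [GrpObj G] (a : A ⟶ S)
  (X : NonAbH1.TorsorSch (Red.bc a G) Scheme.fppfPrecoverage) (z : 𝟙_ (Over S) ⟶ Over.mk a)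

/-- The fibre as a bundle over the base. -/
def fibBun : Bun G (𝟙_ (Over S)) :=
  bunOf (𝟙 S) (bcAct a X.act z.left (Over.w z))
    (isPseudoTorsorSch_restrict (NonAbH1.isPseudoTorsorSch_bc z.left X.isTorsor.1) _)

/-- A point of the fibre as a point of the bundle. -/
def down {W : Over S} (ξ : W ⟶ (fibBun a X z).X) : W ⟶ (bunX a X).X :=
  Over.homMk (ξ.left ≫ pullback.fst X.X.hom z.left) (by
    show _ ≫ X.X.hom ≫ a = _
    rw [Category.assoc, pullback.condition_assoc, show z.left ≫ a = 𝟙 S from Over.w z]
    exact Over.w ξ)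

theorem down_p {W : Over S} (ξ : W ⟶ (fibBun a X z).X) : down a X z ξ ≫ (bunX a X).p = toUnit W ≫ z := by
  refine Over.OverMorphism.ext ?_
  show (ξ.left ≫ pullback.fst X.X.hom z.left) ≫ X.X.hom = (toUnit W).left ≫ z.left
  rw [Category.assoc, pullback.condition, ← Category.assoc]
  exact congrArg (· ≫ z.left) (congrArg CommaMorphism.left
    (toUnit_unique (ξ ≫ (fibBun a X z).p) (toUnit W)))

theorem exists_down {W : Over S} (ξ : W ⟶ (bunX a X).X) (h : ξ ≫ (bunX a X).p = toUnit W ≫ z) :
    ∃ π : W ⟶ (fibBun a X z).X, down a X z π = ξ := by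
  refine ⟨Over.homMk (pullback.lift ξ.left (toUnit W).left (congrArg CommaMorphism.left h)) ?_, ?_⟩
  · show _ ≫ pullback.snd X.X.hom z.left ≫ 𝟙 S = W.hom
    rw [pullback.lift_snd_assoc]
    exact Over.w (toUnit W)
  · exact Over.OverMorphism.ext (pullback.lift_fst _ _ _)

/-- The structure map of a point. -/
theorem toUnit_left {W : Over S} : (toUnit W).left = W.hom :=
  (Category.comp_id _).symm.trans (Over.w (toUnit W))

theorem fib_locTriv : NonAbH1.IsLocallyTrivialFor Scheme.fppfPrecoverage (Red.bc z.left X.X) :=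
  NonAbH1.isLocallyTrivialFor_bc z.left _ X.isTorsor.2

end Groth.Agent.QuillenLib
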