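import Groth.Agent.QuillenLib.Tra

/-!
# Morphisms glued on two opens
-/

universe u

open CategoryTheory MonoidalCategory CartesianMonoidalCategory MonObj GrpObj AlgebraicGeometry

noncomputable section

set_option backward.isDefEq.respectTransparency false

namespace Groth.Agent.QuillenLib

variable {S : Scheme.{u}} {T K T₁ T₂ : Over S} {u₁ : T₁ ⟶ T} {u₂ : T₂ ⟶ T} [IsOpenImmersion u₁.left]
  [IsOpenImmersion u₂.left]

theorem two_ext (hcov : ∀ t : T.left, t ∈ Set.range u₁.left ∨ t ∈ Set.range u₂.left) {f f' : T ⟶ K}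
    (h₁ : u₁ ≫ f = u₁ ≫ f') (h₂ : u₂ ≫ f = u₂ ≫ f') : f = f' := by
  refine Over.OverMorphism.ext (Scheme.Cover.hom_ext (Scheme.Cover.mkOfCovers (P := @IsOpenImmersion)
    (PUnit.{u + 1} ⊕ PUnit.{u + 1}) (fun k => match k with | Sum.inl _ => T₁.left | Sum.inr _ => T₂.left)
    (fun k => match k with | Sum.inl _ => u₁.left | Sum.inr _ => u₂.left) (fun t => ?_) (fun k => ?_)) _ _ fun k => ?_)
  · rcases hcov t with ⟨y, hy⟩ | ⟨y, hy⟩
    · exact ⟨Sum.inl PUnit.unit, y, hy⟩
    · exact ⟨Sum.inr PUnit.unit, y, hy⟩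
  · match k with
    | Sum.inl _ => exact ‹IsOpenImmersion u₁.left›
    | Sum.inr _ => exact ‹IsOpenImmersion u₂.left›
  · match k with
    | Sum.inl _ => exact congrArg CommaMorphism.left h₁
    | Sum.inr _ => exact congrArg CommaMorphism.left h₂

theorem two_glue (hcov : ∀ t : T.left, t ∈ Set.range u₁.left ∨ t ∈ Set.range u₂.left) (f₁ : T₁ ⟶ K) (f₂ : T₂ ⟶ K)
    (h : ∀ (W : Over S) (a₁ : W ⟶ T₁) (a₂ : W ⟶ T₂), a₁ ≫ u₁ = a₂ ≫ u₂ → a₁ ≫ f₁ = a₂ ≫ f₂) :
    ∃ f : T ⟶ K, u₁ ≫ f = f₁ ∧ u₂ ≫ f = f₂ := by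
  let X : PUnit.{u + 1} ⊕ PUnit.{u + 1} → Over S := fun k => match k with | Sum.inl _ => T₁ | Sum.inr _ => T₂
  let v : ∀ k, X k ⟶ T := fun k => match k with | Sum.inl _ => u₁ | Sum.inr _ => u₂
  let g : ∀ k, X k ⟶ K := fun k => match k with | Sum.inl _ => f₁ | Sum.inr _ => f₂
  haveI hv : ∀ k, IsOpenImmersion (v k).left := fun k => match k with
    | Sum.inl _ => ‹IsOpenImmersion u₁.left›
    | Sum.inr _ => ‹IsOpenImmersion u₂.left›
  let 𝒰 : T.left.OpenCover :=
    Scheme.Cover.mkOfCovers _ (fun k => (X k).left) (fun k => (v k).left) (fun t => by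
      rcases hcov t with ⟨y, hy⟩ | ⟨y, hy⟩
      · exact ⟨Sum.inl PUnit.unit, y, hy⟩
      · exact ⟨Sum.inr PUnit.unit, y, hy⟩) hv
  have key : ∀ k l (W : Over S) (a : W ⟶ X k) (b : W ⟶ X l), a ≫ v k = b ≫ v l → a ≫ g k = b ≫ g l := by
    intro k l W a b e
    match k, l with
    | Sum.inl _, Sum.inr _ => exact h W a b e
    | Sum.inr _, Sum.inl _ => exact (h W b a e.symm).symm
    | Sum.inl ⟨⟩, Sum.inl ⟨⟩ =>
      haveI : Mono u₁ := Over.mono_of_mono_left _
      rw [(cancel_mono u₁).1 (show a ≫ u₁ = b ≫ u₁ from e)]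
    | Sum.inr ⟨⟩, Sum.inr ⟨⟩ =>
      haveI : Mono u₂ := Over.mono_of_mono_left _
      rw [(cancel_mono u₂).1 (show a ≫ u₂ = b ≫ u₂ from e)]
  let f₀ : T.left ⟶ K.left := Scheme.Cover.glueMorphisms 𝒰 (fun k => (g k).left) fun k l => by
    let W : Over S := Over.mk (Limits.pullback.fst (v k).left (v l).left ≫ (X k).hom)
    let a : W ⟶ X k := Over.homMk (Limits.pullback.fst (v k).left (v l).left) rfl
    let b : W ⟶ X l := Over.homMk (Limits.pullback.snd (v k).left (v l).left) (by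
      show _ = Limits.pullback.fst (v k).left (v l).left ≫ (X k).hom
      rw [← Over.w (v l), ← Over.w (v k), Limits.pullback.condition_assoc])
    exact congrArg CommaMorphism.left (key k l W a b (Over.OverMorphism.ext Limits.pullback.condition))
  have hf : ∀ k, (v k).left ≫ f₀ = (g k).left := fun k => Scheme.Cover.ι_glueMorphisms 𝒰 _ _ k
  let f : T ⟶ K := Over.homMk f₀ (Scheme.Cover.hom_ext 𝒰 _ _ fun k => by
    show (v k).left ≫ f₀ ≫ K.hom = (v k).left ≫ T.hom
    rw [reassoc_of% (hf k), Over.w (g k), Over.w (v k)])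
  exact ⟨f, Over.OverMorphism.ext (hf (Sum.inl PUnit.unit)), Over.OverMorphism.ext (hf (Sum.inr PUnit.unit))⟩

/-- The preimage of an open under a map, over the base. -/
theorem exists_pre {C C' : Over S} (c : C' ⟶ C) [IsOpenImmersion c.left] (b : T ⟶ C) :
    ∃ (T' : Over S) (u : T' ⟶ T) (b' : T' ⟶ C'), IsOpenImmersion u.left ∧ b' ≫ c = u ≫ b ∧
      ∀ t : T.left, b.left t ∈ Set.range c.left → t ∈ Set.range u.left := by
  refine ⟨Over.mk (Limits.pullback.fst b.left c.left ≫ T.hom),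
    Over.homMk (Limits.pullback.fst b.left c.left) rfl,
    Over.homMk (Limits.pullback.snd b.left c.left) (by
      show _ = Limits.pullback.fst b.left c.left ≫ T.hom
      rw [← Over.w c, ← Over.w b, Limits.pullback.condition_assoc]),
    inferInstanceAs (IsOpenImmersion (Limits.pullback.fst b.left c.left)),
    Over.OverMorphism.ext Limits.pullback.condition.symm, fun t ht => ?_⟩
  have : t ∈ Set.range (Limits.pullback.fst b.left c.left) := by
    rw [Scheme.Pullback.range_fst]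
    exact ht
  exact this

end Groth.Agent.QuillenLib
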