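import Groth.Agent.QuillenLib.Tra
import Groth.Agent.QuillenLib.Affine
import Mathlib.RingTheory.MvPolynomial.Basic

/-!
# Transports to the value at zero on an affine space agree after correction
-/

universe u

open CategoryTheory MonoidalCategory CartesianMonoidalCategory MonObj GrpObj AlgebraicGeometry TensorProduct Polynomial

noncomputable section

set_option backward.isDefEq.respectTransparency false
set_option maxSynthPendingDepth 4

namespace Groth.Agent.QuillenLib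

variable {R : Type u} [CommRing R] {n : Type u}

/-- The polynomials over an algebra. -/
abbrev PL (R n L : Type u) [CommRing R] [CommRing L] [Algebra R L] : Type u := MvPolynomial n R ⊗[R] L

variable {L L' : Type u} [CommRing L] [CommRing L'] [Algebra R L] [Algebra R L']

/-- The functoriality in the algebra. -/
abbrev pmap (n : Type u) (ψ : L →ₐ[R] L') : PL R n L →ₐ[R] PL R n L' :=
  Algebra.TensorProduct.map (AlgHom.id R (MvPolynomial n R)) ψ

variable (R n L) in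
/-- The endomorphism sending the variables to zero. -/
def zeroEnd : PL R n L →ₐ[R] PL R n L :=
  Algebra.TensorProduct.map ((Algebra.ofId R (MvPolynomial n R)).comp (MvPolynomial.aeval (0 : n → R)))
    (AlgHom.id R L)

variable (R n L) in
/-- The homotopy multiplying the variables by a parameter. -/
def hmtp : PL R n L →ₐ[R] (PL R n L)[X] :=
  Algebra.TensorProduct.productMap
    (MvPolynomial.aeval fun i : n => Polynomial.C (inL R (MvPolynomial n R) L (MvPolynomial.X i)) * Polynomial.X)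
    ((cst R (PL R n L)).comp (inR R (MvPolynomial n R) L))

theorem zeroEnd_idem : (zeroEnd R n L).comp (zeroEnd R n L) = zeroEnd R n L := by
  refine Algebra.TensorProduct.ext ?_ (AlgHom.ext fun l => by simp [zeroEnd])
  exact MvPolynomial.algHom_ext fun i => by simp [zeroEnd]

theorem zeroEnd_natural (ψ : L →ₐ[R] L') : (zeroEnd R n L').comp (pmap n ψ) = (pmap n ψ).comp (zeroEnd R n L) := by
  refine Algebra.TensorProduct.ext ?_ (AlgHom.ext fun l => by simp [zeroEnd])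
  exact MvPolynomial.algHom_ext fun i => by simp [zeroEnd]

/-- Evaluation of the parameter. -/
def evp {P : Type u} [CommRing P] [Algebra R P] (u : P) : P[X] →ₐ[R] P :=
  (Polynomial.aeval (R := P) u).restrictScalars R

theorem evp_one_hmtp : (evp (1 : PL R n L)).comp (hmtp R n L) = AlgHom.id R _ := by
  refine Algebra.TensorProduct.ext ?_ (AlgHom.ext fun l => by simp [evp, hmtp, cst])
  exact MvPolynomial.algHom_ext fun i => by simp [evp, hmtp, cst, ← Algebra.TensorProduct.one_def]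

theorem ev0_hmtp : (ev0 R (PL R n L)).comp (hmtp R n L) = zeroEnd R n L := by
  refine Algebra.TensorProduct.ext ?_ (AlgHom.ext fun l => by simp [ev0, zeroEnd, hmtp, cst])
  exact MvPolynomial.algHom_ext fun i => by simp [ev0, zeroEnd, hmtp]

theorem evp_scale {P : Type u} [CommRing P] [Algebra R P] (u : P) (d : R) (h : algebraMap R P d * u = 1) :
    (evp u).comp (scale R d) = evp (1 : P) :=
  polyHom_ext (fun a => by simp [evp, scale]) (by simp [evp, scale, h])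

theorem evp_map {P P' : Type u} [CommRing P] [CommRing P'] [Algebra R P] [Algebra R P'] (ψ : P →ₐ[R] P') (u : P) :
    (evp (ψ u)).comp (mapAlgHom ψ) = ψ.comp (evp u) :=
  polyHom_ext (fun a => by simp [evp]) (by simp [evp])

variable {G A : Over (Spec (CommRingCat.of R))} [GrpObj G] (B : Bun G A) (x : O R (MvPolynomial n R) ⟶ A) (z : 𝟙_ (Over (Spec (CommRingCat.of R))) ⟶ A)

variable (L) in
/-- The coordinates point. -/
abbrev xL : O R (PL R n L) ⟶ A := om (inL R (MvPolynomial n R) L) ≫ x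

variable {x z} (hz : om (MvPolynomial.aeval (0 : n → R)) ≫ x = toUnit (O R R) ≫ z)

include hz in
theorem zeroEnd_x : om (zeroEnd R n L) ≫ xL L x = toUnit (O R (PL R n L)) ≫ z := by
  rw [← Category.assoc, ← om_comp,
    show (zeroEnd R n L).comp (inL R (MvPolynomial n R) L) =
      (Algebra.ofId R (PL R n L)).comp (MvPolynomial.aeval (0 : n → R)) from
      MvPolynomial.algHom_ext fun i => by simp [zeroEnd],
    om_comp, Category.assoc, hz, ← Category.assoc, toUnit_unique (_ ≫ toUnit _) (toUnit _)]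

omit [GrpObj G] in
theorem comp_toUnit_z {T T' : Over (Spec (CommRingCat.of R))} (v : T' ⟶ T) : v ≫ toUnit T ≫ z = toUnit T' ≫ z := by
  rw [← Category.assoc, toUnit_unique (v ≫ toUnit T) (toUnit T')]

omit [GrpObj G] in
theorem pmap_x (ψ : L →ₐ[R] L') : om (pmap n ψ) ≫ xL L x = xL L' x := by
  rw [← Category.assoc, ← om_comp]
  congr 2
  exact AlgHom.ext fun p => by simp

variable {B}

theorem Tra.res_congr {T T₁ : Over (Spec (CommRingCat.of R))} {a b : T ⟶ A} (φ : Tra B a b) {v v' : T₁ ⟶ T} (e : v = v') (a' b' : T₁ ⟶ A)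
    (ha : v ≫ a = a') (hb : v ≫ b = b') :
    φ.res v a' b' ha hb = φ.res v' a' b' (e ▸ ha) (e ▸ hb) := by
  subst e; rfl

theorem Tra.res_square {T T₁ T₁' T₂ : Over (Spec (CommRingCat.of R))} {a b : T ⟶ A} (φ : Tra B a b) (v : T₁ ⟶ T)
    (v' : T₂ ⟶ T₁) (w : T₁' ⟶ T) (w' : T₂ ⟶ T₁') (e : v' ≫ v = w' ≫ w) (a₁ b₁ : T₁ ⟶ A) (a₁' b₁' : T₁' ⟶ A)
    (a₂ b₂ : T₂ ⟶ A) (ha : v ≫ a = a₁) (hb : v ≫ b = b₁) (ha' : v' ≫ a₁ = a₂) (hb' : v' ≫ b₁ = b₂)
    (hc : w ≫ a = a₁') (hd : w ≫ b = b₁') (hc' : w' ≫ a₁' = a₂) (hd' : w' ≫ b₁' = b₂) :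
    (φ.res v a₁ b₁ ha hb).res v' a₂ b₂ ha' hb' = (φ.res w a₁' b₁' hc hd).res w' a₂ b₂ hc' hd' :=
  Tra.ext fun T' u ξ h => φ.app_congr (by rw [Category.assoc, Category.assoc, e]) rfl _ _

theorem Tra.res_self {T : Over (Spec (CommRingCat.of R))} {a b : T ⟶ A} (φ : Tra B a b) :
    φ.res (𝟙 T) a b (Category.id_comp _) (Category.id_comp _) = φ :=
  Tra.ext fun T' w ξ h => φ.app_congr (Category.comp_id w) rfl _ _

variable (B x z L) in
/-- The torsor descends over the algebra. -/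
def Triv : Prop := Nonempty (TIso B (xL L x) (toUnit (O R (PL R n L)) ≫ z))

theorem Triv.map (h : Triv L B x z) (ψ : L →ₐ[R] L') : Triv L' B x z :=
  Nonempty.map (fun φ => φ.res (om (pmap n ψ)) _ _ (pmap_x ψ) (comp_toUnit_z _)) h

include hz in
theorem Triv.exists_normalised (h : Triv L B x z) :
    ∃ φ : TIso B (xL L x) (toUnit (O R (PL R n L)) ≫ z),
      φ.hom.res (om (zeroEnd R n L)) _ _ (zeroEnd_x hz) (comp_toUnit_z _) = Tra.id _ ∧
      φ.inv.res (om (zeroEnd R n L)) _ _ (comp_toUnit_z _) (zeroEnd_x hz) = Tra.id _ := by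
  obtain ⟨φ⟩ := h
  let φ0 := φ.res (om (zeroEnd R n L)) _ _ (zeroEnd_x hz) (comp_toUnit_z (z := z) _)
  refine ⟨φ.trans φ0.symm, ?_⟩
  have e : ∀ {a b : O R (PL R n L) ⟶ A} (ψ : Tra B a b) (a' : O R (PL R n L) ⟶ A)
      (ha : om (zeroEnd R n L) ≫ a = a') (b' : O R (PL R n L) ⟶ A) (hb : om (zeroEnd R n L) ≫ b = b')
      (ha' : om (zeroEnd R n L) ≫ a' = a') (hb' : om (zeroEnd R n L) ≫ b' = b'),
      (ψ.res (om (zeroEnd R n L)) a' b' ha hb).res (om (zeroEnd R n L)) a' b' ha' hb' =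
        ψ.res (om (zeroEnd R n L)) a' b' ha hb := fun ψ a' ha b' hb ha' hb' => by
    rw [Tra.res_res _ _ _ _ _ _ _ _ _ _ _ (om (zeroEnd R n L)) (by rw [← om_comp, zeroEnd_idem])]
  constructor
  · show (φ.hom.comp φ0.inv).res _ _ _ _ _ = _
    rw [Tra.res_comp _ _ _ _ (toUnit _ ≫ z) _ _ (comp_toUnit_z _) _,
      show φ0.inv = φ.inv.res (om (zeroEnd R n L)) _ _ (comp_toUnit_z _) (zeroEnd_x hz) from rfl,
      e φ.inv _ _ _ _ (comp_toUnit_z _) (comp_toUnit_z _)]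
    exact φ0.hom_inv
  · show (φ0.hom.comp φ.inv).res _ _ _ _ _ = _
    rw [Tra.res_comp _ _ _ _ (toUnit _ ≫ z) _ _ (comp_toUnit_z _) _,
      show φ0.hom = φ.hom.res (om (zeroEnd R n L)) _ _ (zeroEnd_x hz) (comp_toUnit_z _) from rfl,
      e φ.hom _ _ _ _ (comp_toUnit_z _) (comp_toUnit_z _)]
    exact φ0.hom_inv

section Poly

variable {R' : Type u} [CommRing R'] [Algebra R R'] {σ : O R R' ⟶ B.X} {Q : Type u} [CommRing Q] [Algebra R Q]

/-- The twisted point of a transport over polynomials, on the cover. -/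
abbrev ptOf (H : HPt B σ (O R Q[X])) : O R (R' ⊗[R] Q)[X] ⟶ G :=
  H.app (om (mapAlgHom (inR R R' Q))) (om ((cst R (R' ⊗[R] Q)).comp (inL R R' Q)))

theorem HPt.app_eq (H : HPt B σ (O R Q[X])) {W : Over (Spec (CommRingCat.of R))} (w : W ⟶ O R Q[X]) (b : W ⟶ O R R')
    (m : W ⟶ O R (R' ⊗[R] Q)[X]) (hb : m ≫ om ((cst R (R' ⊗[R] Q)).comp (inL R R' Q)) = b)
    (hw : m ≫ om (mapAlgHom (inR R R' Q)) = w) : H.app w b = m ≫ ptOf H := by
  subst hb hw
  exact (H.nat m _ _).symm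

variable (σ) (hσ : σ ≫ B.p = toUnit (O R R') ≫ z)

include hσ in
theorem exists_div_cover :
    ∃ c₀ : O R (R' ⊗[R] R') ⟶ G, B.sm c₀ (om (inR R R' R') ≫ σ) = om (inL R R' R') ≫ σ :=
  B.trans _ _ _ (by rw [sigma_p hσ, sigma_p hσ])

variable {σ} {c₀ : O R (R' ⊗[R] R') ⟶ G} (hc : B.sm c₀ (om (inR R R' R') ≫ σ) = om (inL R R' R') ≫ σ)

/-- The first inclusion of the cocycle condition. -/
abbrev iQ (R R' Q : Type u) [CommRing R] [CommRing R'] [CommRing Q] [Algebra R R'] [Algebra R Q] :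
    R' ⊗[R] Q →ₐ[R] (R' ⊗[R] R') ⊗[R] Q :=
  Algebra.TensorProduct.map (inL R R' R') (AlgHom.id R Q)

/-- The second inclusion of the cocycle condition. -/
abbrev jQ (R R' Q : Type u) [CommRing R] [CommRing R'] [CommRing Q] [Algebra R R'] [Algebra R Q] :
    R' ⊗[R] Q →ₐ[R] (R' ⊗[R] R') ⊗[R] Q :=
  Algebra.TensorProduct.map (inR R R' R') (AlgHom.id R Q)

include hc in
theorem ptOf_cond (H : HPt B σ (O R Q[X])) :
    Cond (mapAlgHom (iQ R R' Q)) (mapAlgHom (jQ R R' Q)) (cX (om (inL R (R' ⊗[R] R') Q) ≫ c₀)) (ptOf H) := by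
  let r := om ((cst R ((R' ⊗[R] R') ⊗[R] Q)).comp (inL R (R' ⊗[R] R') Q))
  let w := om (mapAlgHom (inR R (R' ⊗[R] R') Q))
  have hc' : cX (om (inL R (R' ⊗[R] R') Q) ≫ c₀) = r ≫ c₀ := by
    rw [cX, ← Category.assoc, ← om_comp]
  have h := H.cocycle w (r ≫ om (inL R R' R')) (r ≫ om (inR R R' R')) (r ≫ c₀) (by
    rw [Category.assoc, ← B.comp_sm, hc, Category.assoc])
  rw [H.app_eq w _ (om (mapAlgHom (iQ R R' Q))) (by
      rw [← om_comp, ← om_comp]; congr 1; exact AlgHom.ext fun a => by simp [cst]) (by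
      rw [← om_comp]; congr 1; exact polyHom_ext (fun a => by simp) (by simp)),
    H.app_eq w _ (om (mapAlgHom (jQ R R' Q))) (by
      rw [← om_comp, ← om_comp]; congr 1; exact AlgHom.ext fun a => by simp [cst]) (by
      rw [← om_comp]; congr 1; exact polyHom_ext (fun a => by simp) (by simp))] at h
  rw [Cond, hc']
  exact h

include hc in
theorem exists_hpt_of_cond (g : O R (R' ⊗[R] Q)[X] ⟶ G)
    (hg : Cond (mapAlgHom (iQ R R' Q)) (mapAlgHom (jQ R R' Q)) (cX (om (inL R (R' ⊗[R] R') Q) ≫ c₀)) g) :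
    ∃ H : HPt B σ (O R Q[X]), ∀ ⦃W : Over (Spec (CommRingCat.of R))⦄ (m : W ⟶ O R (R' ⊗[R] Q)[X]),
      H.app (m ≫ om (mapAlgHom (inR R R' Q))) (m ≫ om ((cst R (R' ⊗[R] Q)).comp (inL R R' Q))) = m ≫ g := by
  choose l hl1 hl2 using fun (W : Over (Spec (CommRingCat.of R))) (w : W ⟶ O R Q[X]) (b : W ⟶ O R R') => exists_lift_poly b w
  refine ⟨⟨fun W w b => l W w b ≫ g, fun W W' v w b => ?_, fun W w b₁ b₂ gg hgg => ?_⟩, fun W m => ?_⟩
  · rw [← Category.assoc]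
    congr 1
    exact poly_hom_ext (by rw [Category.assoc, hl1, hl1]) (by rw [Category.assoc, hl2, hl2])
  · obtain ⟨r, hr1, hr2⟩ := exists_lift_tensor b₁ b₂
    obtain ⟨m₂, hm1, hm2⟩ := exists_lift_poly r w
    have hi : m₂ ≫ om (mapAlgHom (iQ R R' Q)) = l W w b₁ := by
      refine poly_hom_ext ?_ ?_
      · rw [hl1, Category.assoc, ← om_comp, ← hr1, ← hm1, Category.assoc, ← om_comp]
        congr 2
        exact AlgHom.ext fun a => by simp [cst]
      · rw [hl2, Category.assoc, ← om_comp, ← hm2]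
        congr 2
        exact polyHom_ext (fun a => by simp) (by simp)
    have hj : m₂ ≫ om (mapAlgHom (jQ R R' Q)) = l W w b₂ := by
      refine poly_hom_ext ?_ ?_
      · rw [hl1, Category.assoc, ← om_comp, ← hr2, ← hm1, Category.assoc, ← om_comp]
        congr 2
        exact AlgHom.ext fun a => by simp [cst]
      · rw [hl2, Category.assoc, ← om_comp, ← hm2]
        congr 2
        exact polyHom_ext (fun a => by simp) (by simp)
    have hgg' : gg = m₂ ≫ cX (om (inL R (R' ⊗[R] R') Q) ≫ c₀) := by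
      refine B.free _ _ _ (b₂ ≫ σ) ?_
      show B.sm gg (b₂ ≫ σ) = B.sm _ (b₂ ≫ σ)
      rw [hgg, cX, ← Category.assoc (om (cst R _)), ← om_comp, ← Category.assoc m₂, hm1, ← hr1, ← hr2,
        Category.assoc, Category.assoc, ← B.comp_sm, hc]
    have h := congrArg (m₂ ≫ ·) hg
    simp only [MonObj.comp_mul, ← Category.assoc, hi, hj] at h
    rw [hgg']
    exact h
  · show l W _ _ ≫ g = m ≫ g
    congr 1
    exact poly_hom_ext (hl1 _ _ _) (hl2 _ _ _)

include hσ in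
/-- The transport of an invertible twisted point. -/
theorem exists_tiso (hcv : FpqcDescLib.Covers (O R R').hom) {T : Over (Spec (CommRingCat.of R))} (H : HPt B σ T) :
    ∃ θ : TIso B (toUnit T ≫ z) (toUnit T ≫ z),
      ∀ ⦃W : Over (Spec (CommRingCat.of R))⦄ (w : W ⟶ T) (b : W ⟶ O R R') (k : W ⟶ G)
        (h : B.sm k (b ≫ σ) ≫ B.p = w ≫ toUnit T ≫ z),
        θ.hom.app w (B.sm k (b ≫ σ)) h = B.sm (k * H.app w b) (b ≫ σ) := by
  obtain ⟨θ, hθ⟩ := exists_tra hσ hcv H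
  obtain ⟨θ', hθ'⟩ := exists_tra hσ hcv H⁻¹
  have hp : ∀ {W : Over (Spec (CommRingCat.of R))} (w : W ⟶ T) (b : W ⟶ O R R') (k : W ⟶ G),
      B.sm k (b ≫ σ) ≫ B.p = w ≫ toUnit T ≫ z := fun w b k => by
    rw [B.sm_p, sigma_p hσ, comp_toUnit_z]
  refine ⟨⟨θ, θ', ?_, ?_⟩, hθ⟩
  · refine tra_ext hσ hcv fun W w b hh => ?_
    show θ'.app w (θ.app w (b ≫ σ) hh) _ = b ≫ σ
    rw [θ'.app_congr rfl ((θ.app_congr rfl (B.one_sm _).symm hh (hp w b 1)).trans (hθ w b 1 _)) _ (hp w b _),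
      hθ']
    show B.sm (1 * H.app w b * (H.app w b)⁻¹) (b ≫ σ) = _
    rw [mul_inv_cancel_right, B.one_sm]
  · refine tra_ext hσ hcv fun W w b hh => ?_
    show θ.app w (θ'.app w (b ≫ σ) hh) _ = b ≫ σ
    rw [θ.app_congr rfl ((θ'.app_congr rfl (B.one_sm _).symm hh (hp w b 1)).trans (hθ' w b 1 _)) _ (hp w b _),
      hθ]
    show B.sm (1 * (H.app w b)⁻¹ * H.app w b) (b ≫ σ) = _
    rw [inv_mul_cancel_right, B.one_sm]

end Poly

section Factor

variable [LocallyOfFinitePresentation G.hom] {R' : Type u} [CommRing R'] [Algebra R R'] (σ : O R R' ⟶ B.X)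
variable {Qa Qb Q : Type u} [CommRing Qa] [CommRing Qb] [CommRing Q] [Algebra R Qa] [Algebra R Qb] [Algebra R Q]
  {ψa : Qa →ₐ[R] Q} {ψb : Qb →ₐ[R] Q} {a b : R}

/-- A transport which is trivial at zero factors after scaling. -/
theorem exists_factor (hσ : σ ≫ B.p = toUnit (O R R') ≫ z) (hcv : FpqcDescLib.Covers (O R R').hom)
    (ha : IsLocAt ψa b) (hb : IsLocAt ψb a) (S : Set R) (hS : ∀ N M : ℕ, ∃ s t : R, a ^ N * s + b ^ M * t ∈ S)
    (θX : Tra B (toUnit (O R Q[X]) ≫ z) (toUnit (O R Q[X]) ≫ z))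
    (h0 : θX.res (om (ev0 R Q)) _ _ (comp_toUnit_z _) (comp_toUnit_z _) = Tra.id (toUnit (O R Q) ≫ z)) :
    ∃ d ∈ S, ∃ (t₁ : TIso B (toUnit (O R Qa[X]) ≫ z) (toUnit (O R Qa[X]) ≫ z))
      (t₂ : TIso B (toUnit (O R Qb[X]) ≫ z) (toUnit (O R Qb[X]) ≫ z)),
      θX.res (om (scale R d)) _ _ (comp_toUnit_z _) (comp_toUnit_z _) =
      (t₁.hom.res (om (mapAlgHom ψa)) _ (toUnit (O R Q[X]) ≫ z) (comp_toUnit_z _) (comp_toUnit_z _)).comp
        (t₂.hom.res (om (mapAlgHom ψb)) _ _ (comp_toUnit_z _) (comp_toUnit_z _)) := by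
  obtain ⟨H, hH⟩ := exists_hpt (T := O R Q[X]) hσ θX
  obtain ⟨c₀, hc₀⟩ := exists_div_cover σ hσ
  have hp : ∀ {T W : Over (Spec (CommRingCat.of R))} (w : W ⟶ T) (b : W ⟶ O R R'), (b ≫ σ) ≫ B.p = w ≫ toUnit T ≫ z := fun w b => by
    rw [sigma_p hσ, comp_toUnit_z]
  have hH0 : om (P := (R' ⊗[R] Q)[X]) (Q := R' ⊗[R] Q) (ev0 R (R' ⊗[R] Q)) ≫ ptOf H = 1 := by
    let w := om (inR R R' Q)
    let b := om (inL R R' Q)
    rw [← H.app_eq (w ≫ om (ev0 R Q)) b (om (P := (R' ⊗[R] Q)[X]) (Q := R' ⊗[R] Q) (ev0 R (R' ⊗[R] Q))) (by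
        rw [← om_comp]; congr 1; exact AlgHom.ext fun a => by simp [ev0, cst]) (by
        rw [← om_comp, ← om_comp]; congr 1; exact polyHom_ext (fun a => by simp [ev0]) (by simp [ev0]))]
    refine B.free _ _ _ (b ≫ σ) ?_
    show B.sm (H.app _ _) (b ≫ σ) = B.sm 1 (b ≫ σ)
    rw [← hH _ _ (hp _ _), B.one_sm]
    exact congrArg (fun t => Tra.app t w (b ≫ σ) (hp w b)) h0

  obtain ⟨d, hd, g₁, g₂, hg₁, hg₂, hg⟩ := exists_patch_cond
    (φ := Algebra.TensorProduct.map (AlgHom.id R R') (ψa))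
    (φ' := Algebra.TensorProduct.map (AlgHom.id R R') (ψb))
    (φ₂ := Algebra.TensorProduct.map (AlgHom.id R (R' ⊗[R] R')) (ψa))
    (φ₂' := Algebra.TensorProduct.map (AlgHom.id R (R' ⊗[R] R')) (ψb))
    (i := iQ R R' Qa) (j := jQ R R' Qa) (i' := iQ R R' Q) (j' := jQ R R' Q)
    (i'' := iQ R R' Qb) (j'' := jQ R R' Qb)
    ha.lTensor ha.lTensor hb.lTensor hb.lTensor
    (Algebra.TensorProduct.ext' fun _ _ => by simp) (Algebra.TensorProduct.ext' fun _ _ => by simp) (Algebra.TensorProduct.ext' fun _ _ => by simp) (Algebra.TensorProduct.ext' fun _ _ => by simp)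
    (om (inL R (R' ⊗[R] R') Qa) ≫ c₀) (om (inL R (R' ⊗[R] R') Qb) ≫ c₀) (om (inL R (R' ⊗[R] R') Q) ≫ c₀)
    (by rw [← Category.assoc, ← om_comp]; congr 2; exact AlgHom.ext fun a => by simp)
    (by rw [← Category.assoc, ← om_comp]; congr 2; exact AlgHom.ext fun a => by simp)
    S hS (ptOf H) hH0 (ptOf_cond hc₀ H)
  obtain ⟨H₁, hH₁⟩ := exists_hpt_of_cond hc₀ g₁ hg₁
  obtain ⟨H₂, hH₂⟩ := exists_hpt_of_cond hc₀ g₂ hg₂
  obtain ⟨t₁, ht₁⟩ := exists_tiso hσ hcv H₁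
  obtain ⟨t₂, ht₂⟩ := exists_tiso hσ hcv H₂
  -- the factorisation of the scaled difference
  refine ⟨d, hd, t₁, t₂, ?_⟩
  · refine tra_ext hσ hcv fun W w b hh => ?_
    obtain ⟨m, hm1, hm2⟩ := exists_lift_poly b w
    show θX.app (w ≫ om (scale R d)) (b ≫ σ) (hp _ _) =
      t₂.hom.app (w ≫ om (mapAlgHom (ψb))) (t₁.hom.app (w ≫ om (mapAlgHom (ψa))) (b ≫ σ) (hp _ _)) _
    rw [hH _ _ (hp _ _)]
    have e1 : t₁.hom.app (w ≫ om (mapAlgHom (ψa))) (b ≫ σ) (hp _ _) =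
        B.sm (H₁.app (w ≫ om (mapAlgHom (ψa))) b) (b ≫ σ) :=
      ((t₁.hom.app_congr rfl (B.one_sm _).symm (hp _ _) ((B.sm_p _ _).trans (hp _ _))).trans
        (ht₁ _ b 1 _)).trans (by rw [_root_.one_mul])
    rw [t₂.hom.app_congr rfl e1 _ ((B.sm_p _ _).trans (hp _ _)), ht₂]
    congr 1
    have e : ∀ {Q' : Type u} [CommRing Q'] [Algebra R Q'] (ψ : Q' →ₐ[R] Q) (H' : HPt B σ (O R Q'[X]))
        (g : O R (R' ⊗[R] Q')[X] ⟶ G)
        (_ : ∀ ⦃W : Over (Spec (CommRingCat.of R))⦄ (m : W ⟶ O R (R' ⊗[R] Q')[X]),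
          H'.app (m ≫ om (mapAlgHom (inR R R' Q'))) (m ≫ om ((cst R (R' ⊗[R] Q')).comp (inL R R' Q'))) = m ≫ g),
        H'.app (w ≫ om (mapAlgHom ψ)) b = m ≫ om (mapAlgHom (Algebra.TensorProduct.map (AlgHom.id R R') ψ)) ≫ g := by
      intro Q' _ _ ψ H' g hg'
      rw [← Category.assoc, ← hg']
      congr 1
      · rw [← hm2, Category.assoc, Category.assoc, ← om_comp, ← om_comp]
        congr 2
        exact polyHom_ext (fun a => by simp) (by simp)
      · rw [← hm1, Category.assoc, ← om_comp]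
        congr 2
        exact AlgHom.ext fun a => by simp [cst]
    rw [e _ H₁ g₁ hH₁, e _ H₂ g₂ hH₂, ← MonObj.comp_mul, ← hg, ← Category.assoc]
    refine (H.app_eq _ _ (m ≫ om (scale R d)) ?_ ?_).trans rfl
    · rw [Category.assoc, ← om_comp, ← hm1]
      congr 2
      exact AlgHom.ext fun a => by simp [scale, cst]
    · rw [Category.assoc, ← om_comp, ← hm2, Category.assoc, ← om_comp]
      congr 2
      exact scale_comp_map _ _

omit [LocallyOfFinitePresentation G.hom] in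
/-- The factors evaluated at the inverse of the scalar. -/
theorem exists_split {d : R} (hda : IsUnit (algebraMap R Qa d)) (hdb : IsUnit (algebraMap R Qb d))
    (θX : Tra B (toUnit (O R Q[X]) ≫ z) (toUnit (O R Q[X]) ≫ z))
    (t₁ : TIso B (toUnit (O R Qa[X]) ≫ z) (toUnit (O R Qa[X]) ≫ z))
    (t₂ : TIso B (toUnit (O R Qb[X]) ≫ z) (toUnit (O R Qb[X]) ≫ z))
    (key : θX.res (om (scale R d)) _ _ (comp_toUnit_z _) (comp_toUnit_z _) =
      (t₁.hom.res (om (mapAlgHom ψa)) _ (toUnit (O R Q[X]) ≫ z) (comp_toUnit_z _) (comp_toUnit_z _)).comp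
        (t₂.hom.res (om (mapAlgHom ψb)) _ _ (comp_toUnit_z _) (comp_toUnit_z _))) :
    ∃ (Ta : TIso B (toUnit (O R Qa) ≫ z) (toUnit (O R Qa) ≫ z))
      (Tb : TIso B (toUnit (O R Qb) ≫ z) (toUnit (O R Qb) ≫ z)),
      θX.res (om (evp (1 : Q))) _ _ (comp_toUnit_z _) (comp_toUnit_z _) =
        (Ta.hom.res (om ψa) _ (toUnit (O R Q) ≫ z) (comp_toUnit_z _) (comp_toUnit_z _)).comp
          (Tb.hom.res (om ψb) _ _ (comp_toUnit_z _) (comp_toUnit_z _)) := by
  obtain ⟨ua, hua⟩ := hda.exists_right_inv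
  obtain ⟨ub, hub⟩ := hdb.exists_right_inv
  have hab : ψb ub = ψa ua := by
    refine left_inv_eq_right_inv (a := algebraMap R Q d) ?_ ?_
    · rw [mul_comm, ← ψb.commutes, ← map_mul, hub, map_one]
    · rw [← ψa.commutes, ← map_mul, hua, map_one]
  refine ⟨t₁.res (om (evp ua)) _ _ (comp_toUnit_z (z := z) _) (comp_toUnit_z _),
    t₂.res (om (evp ub)) _ _ (comp_toUnit_z (z := z) _) (comp_toUnit_z _), ?_⟩
  let u := ψa ua
  have hu : algebraMap R Q d * u = 1 := by rw [← ψa.commutes, ← map_mul, hua, map_one]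
  have e0 : om (evp u) ≫ om (scale R d) = om (evp (1 : Q)) := by rw [← om_comp, evp_scale u d hu]
  have h : (θX.res (om (scale R d)) (toUnit (O R Q[X]) ≫ z) (toUnit (O R Q[X]) ≫ z) (comp_toUnit_z _)
        (comp_toUnit_z _)).res (om (evp u)) (toUnit (O R Q) ≫ z) (toUnit (O R Q) ≫ z) (comp_toUnit_z _)
        (comp_toUnit_z _) =
      ((t₁.hom.res (om (mapAlgHom ψa)) (toUnit (O R Q[X]) ≫ z) (toUnit (O R Q[X]) ≫ z) (comp_toUnit_z _)
        (comp_toUnit_z _)).res (om (evp u)) (toUnit (O R Q) ≫ z) (toUnit (O R Q) ≫ z) (comp_toUnit_z _)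
        (comp_toUnit_z _)).comp
      ((t₂.hom.res (om (mapAlgHom ψb)) (toUnit (O R Q[X]) ≫ z) (toUnit (O R Q[X]) ≫ z) (comp_toUnit_z _)
        (comp_toUnit_z _)).res (om (evp u)) (toUnit (O R Q) ≫ z) (toUnit (O R Q) ≫ z) (comp_toUnit_z _)
        (comp_toUnit_z _)) := by
    rw [key]
    exact Tra.res_comp _ _ _ _ _ _ _ _ _
  rw [Tra.res_res θX _ _ _ _ _ _ _ _ _ _ _ e0] at h
  rw [h]
  have ea : om (evp u) ≫ om (mapAlgHom ψa) = om ψa ≫ om (evp ua) := by rw [← om_comp, ← om_comp, evp_map]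
  have eb : om (evp u) ≫ om (mapAlgHom ψb) = om ψb ≫ om (evp ub) := by
    rw [← om_comp, ← om_comp, show u = ψb ub from hab.symm, evp_map]
  exact congrArg₂ Tra.comp (Tra.res_square t₁.hom _ _ _ _ ea _ _ _ _ _ _
      (comp_toUnit_z _) (comp_toUnit_z _) (comp_toUnit_z _) (comp_toUnit_z _) (comp_toUnit_z _) (comp_toUnit_z _) (comp_toUnit_z _) (comp_toUnit_z _))
    (Tra.res_square t₂.hom _ _ _ _ eb _ _ _ _ _ _
      (comp_toUnit_z _) (comp_toUnit_z _) (comp_toUnit_z _) (comp_toUnit_z _) (comp_toUnit_z _) (comp_toUnit_z _) (comp_toUnit_z _) (comp_toUnit_z _))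

end Factor

variable [LocallyOfFinitePresentation G.hom] {R' : Type u} [CommRing R'] [Algebra R R'] (σ : O R R' ⟶ B.X)
  {La Lb Lab : Type u} [CommRing La] [CommRing Lb] [CommRing Lab] [Algebra R La] [Algebra R Lb] [Algebra R Lab]

include hz in
/-- Transports over two opens can be corrected to agree on the overlap. -/
theorem exists_agree (hσ : σ ≫ B.p = toUnit (O R R') ≫ z) (hcv : FpqcDescLib.Covers (O R R').hom)
    {ψa : La →ₐ[R] Lab} {ψb : Lb →ₐ[R] Lab} {a b : R} (ha : IsLocAt ψa b) (hb : IsLocAt ψb a) (S : Set R)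
    (hS : ∀ N M : ℕ, ∃ s t : R, a ^ N * s + b ^ M * t ∈ S) (hSa : ∀ d ∈ S, IsUnit (algebraMap R La d))
    (hSb : ∀ d ∈ S, IsUnit (algebraMap R Lb d)) (hTa : Triv La B x z) (hTb : Triv Lb B x z) :
    ∃ (φa : TIso B (xL La x) (toUnit (O R (PL R n La)) ≫ z)) (φb : TIso B (xL Lb x) (toUnit (O R (PL R n Lb)) ≫ z)),
      φa.hom.res (om (pmap n ψa)) _ _ (pmap_x ψa) (comp_toUnit_z _) =
        φb.hom.res (om (pmap n ψb)) _ _ (pmap_x ψb) (comp_toUnit_z _) := by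
  obtain ⟨φa, -, hφa⟩ := hTa.exists_normalised hz
  obtain ⟨φb, hφb, -⟩ := hTb.exists_normalised hz
  let Fa : TIso B (xL Lab x) (toUnit (O R (PL R n Lab)) ≫ z) := φa.res (om (pmap n ψa)) _ _ (pmap_x ψa) (comp_toUnit_z _)
  let Fb : TIso B (xL Lab x) (toUnit (O R (PL R n Lab)) ≫ z) := φb.res (om (pmap n ψb)) _ _ (pmap_x ψb) (comp_toUnit_z _)
  let θ := Fa.inv.comp Fb.hom
  have hθ0 : θ.res (om (zeroEnd R n Lab)) _ _ (comp_toUnit_z _) (comp_toUnit_z _) = Tra.id _ := by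
    rw [Tra.res_comp _ _ _ _ (toUnit _ ≫ z) _ _ (zeroEnd_x hz) _,
      show Fa.inv = φa.inv.res (om (pmap n ψa)) _ _ (comp_toUnit_z _) (pmap_x ψa) from rfl,
      show Fb.hom = φb.hom.res (om (pmap n ψb)) _ _ (pmap_x ψb) (comp_toUnit_z _) from rfl,
      Tra.res_res _ _ _ _ _ _ _ _ _ _ _ (om (pmap n ψa) ≫ om (zeroEnd R n La))
        (by rw [← om_comp, ← om_comp, zeroEnd_natural]),
      Tra.res_res _ _ _ _ _ _ _ _ _ _ _ (om (pmap n ψb) ≫ om (zeroEnd R n Lb))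
        (by rw [← om_comp, ← om_comp, zeroEnd_natural]),
      ← Tra.res_res φa.inv (om (zeroEnd R n La)) (om (pmap n ψa)) _ _ _ _ (comp_toUnit_z _) (zeroEnd_x hz)
        (comp_toUnit_z _) (comp_toUnit_z _) _ rfl,
      ← Tra.res_res φb.hom (om (zeroEnd R n Lb)) (om (pmap n ψb)) _ _ _ _ (zeroEnd_x hz) (comp_toUnit_z _)
        (comp_toUnit_z _) (comp_toUnit_z _) _ rfl,
      hφa, hφb]
    rfl
  obtain ⟨d, hd, t₁, t₂, key⟩ := exists_factor σ hσ hcv (ha.lTensor (P := MvPolynomial n R))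
    (hb.lTensor (P := MvPolynomial n R)) S hS
    (θ.res (om (hmtp R n Lab)) _ _ (comp_toUnit_z _) (comp_toUnit_z _))
    (by rw [Tra.res_res _ _ _ _ _ _ _ _ _ _ _ (om (zeroEnd R n Lab)) (by rw [← om_comp, ev0_hmtp]), hθ0])
  obtain ⟨Ta, Tb, hθ⟩ := exists_split
    (by rw [← (inR R (MvPolynomial n R) La).commutes]; exact (hSa d hd).map _)
    (by rw [← (inR R (MvPolynomial n R) Lb).commutes]; exact (hSb d hd).map _) _ t₁ t₂ key
  rw [Tra.res_res _ _ _ _ _ _ _ _ _ _ _ (𝟙 (O R (PL R n Lab))) (by rw [← om_comp, evp_one_hmtp, om_id]),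
    Tra.res_self] at hθ
  refine ⟨φa.trans Ta, φb.trans Tb.symm, ?_⟩
  show (φa.hom.comp Ta.hom).res _ _ _ _ _ = (φb.hom.comp Tb.inv).res _ _ _ _ _
  rw [Tra.res_comp _ _ _ _ (toUnit _ ≫ z) _ _ (comp_toUnit_z _) _,
    Tra.res_comp _ _ _ _ (toUnit _ ≫ z) _ _ (comp_toUnit_z _) _]
  change Fa.hom.comp _ = Fb.hom.comp (Tb.res (om (pmap n ψb)) _ _ (comp_toUnit_z _) (comp_toUnit_z _)).inv
  have h2 : Fb.hom = Fa.hom.comp θ := by
    rw [← Tra.comp_assoc, Fa.hom_inv, Tra.id_comp]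
  rw [h2, hθ, Tra.comp_assoc, Tra.comp_assoc,
    show Tb.hom.res (om (pmap n ψb)) _ _ (comp_toUnit_z _) (comp_toUnit_z _) =
      (Tb.res (om (pmap n ψb)) _ (toUnit (O R (PL R n Lab)) ≫ z) (comp_toUnit_z _) (comp_toUnit_z _)).hom from rfl,
    TIso.hom_inv, Tra.comp_id]

end Groth.Agent.QuillenLib
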