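import Groth.Agent.QuillenLib.Homotopy

/-!
# The ideal of elements over which the torsor descends
-/

universe u

open CategoryTheory MonoidalCategory CartesianMonoidalCategory MonObj GrpObj AlgebraicGeometry TensorProduct

noncomputable section

set_option backward.isDefEq.respectTransparency false

namespace Groth.Agent.QuillenLib

variable {R : Type u} [CommRing R] {n : Type u}

theorem exists_awayHom (r : R) (L' : Type u) [CommRing L'] [Algebra R L'] (h : IsUnit (algebraMap R L' r)) :
    Nonempty (Localization.Away r →ₐ[R] L') :=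
  ⟨{ IsLocalization.Away.lift (S := Localization.Away r) (g := algebraMap R L') r h with
      commutes' := fun a => IsLocalization.Away.lift_eq r h a }⟩

theorem range_O_away (r : R) :
    Set.range (O R (Localization.Away r)).hom = (PrimeSpectrum.basicOpen r : Set (PrimeSpectrum R)) :=
  PrimeSpectrum.localization_away_comap_range (Localization.Away r) r

instance isOpenImmersion_O_away (r : R) : IsOpenImmersion (O R (Localization.Away r)).hom :=
  inferInstanceAs (IsOpenImmersion (Spec.map (CommRingCat.ofHom (algebraMap R (Localization.Away r)))))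

theorem to_away_unique (r : R) {W : Over (Spec (CommRingCat.of R))} (f g : W ⟶ O R (Localization.Away r)) :
    f = g :=
  Over.OverMorphism.ext ((cancel_mono (O R (Localization.Away r)).hom).1 ((Over.w f).trans (Over.w g).symm))

variable (n) in
theorem left_inL_isPullback (L : Type u) [CommRing L] [Algebra R L] :
    IsPullback (om (inL R (MvPolynomial n R) L)).left (om (inR R (MvPolynomial n R) L)).left
      (O R (MvPolynomial n R)).hom (O R L).hom := by
  refine IsPullback.of_iso_pullback ⟨(Over.w _).trans (Over.w _).symm⟩ (pullbackSpecIso R (MvPolynomial n R) L).symm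
    ?_ ?_
  · exact pullbackSpecIso_inv_fst R (MvPolynomial n R) L
  · exact pullbackSpecIso_inv_snd R (MvPolynomial n R) L

instance isOpenImmersion_inL (r : R) :
    IsOpenImmersion (om (inL R (MvPolynomial n R) (Localization.Away r))).left :=
  MorphismProperty.of_isPullback (P := @IsOpenImmersion) (left_inL_isPullback n _).flip (isOpenImmersion_O_away r)

theorem range_inL_away (r : R) :
    Set.range (om (inL R (MvPolynomial n R) (Localization.Away r))).left =
      (O R (MvPolynomial n R)).hom ⁻¹' (PrimeSpectrum.basicOpen r : Set (PrimeSpectrum R)) := by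
  rw [← range_O_away r]
  have h := (left_inL_isPullback (R := R) n (Localization.Away r))
  have e : (om (inL R (MvPolynomial n R) (Localization.Away r))).left =
      h.isoPullback.hom ≫ Limits.pullback.fst _ _ := h.isoPullback_hom_fst.symm
  rw [e, Scheme.Hom.comp_base, TopCat.coe_comp, Set.range_comp,
    Set.range_eq_univ.mpr h.isoPullback.hom.surjective, Set.image_univ, Scheme.Pullback.range_fst]

variable {G A : Over (Spec (CommRingCat.of R))} [GrpObj G] {B : Bun G A}
  {x : O R (MvPolynomial n R) ⟶ A} {z : 𝟙_ (Over (Spec (CommRingCat.of R))) ⟶ A}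
  (hz : om (MvPolynomial.aeval (0 : n → R)) ≫ x = toUnit (O R R) ≫ z)

theorem pmap_inL_eq {L L' : Type u} [CommRing L] [CommRing L'] [Algebra R L] [Algebra R L'] (ψ : L →ₐ[R] L') :
    om (pmap n ψ) ≫ om (inL R (MvPolynomial n R) L) = om (inL R (MvPolynomial n R) L') := by
  rw [← om_comp]
  congr 1
  exact AlgHom.ext fun p => by simp

theorem isOpenImmersion_pmap {r s : R} (ψ : Localization.Away r →ₐ[R] Localization.Away s) :
    IsOpenImmersion (om (pmap n ψ)).left := by
  haveI : IsOpenImmersion ((om (pmap n ψ)).left ≫ (om (inL R (MvPolynomial n R) (Localization.Away r))).left) := by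
    rw [← Over.comp_left, pmap_inL_eq]
    infer_instance
  exact IsOpenImmersion.of_comp _ (om (inL R (MvPolynomial n R) (Localization.Away r))).left

variable (B x z) in
/-- The set of elements over which the torsor descends. -/
def descSet : Set R := {r | Triv (Localization.Away r) B x z}

theorem zero_mem_descSet : (0 : R) ∈ descSet B x z := by
  have h0 : (1 : PL R n (Localization.Away (0 : R))) = 0 := by
    have h := (IsLocalization.Away.algebraMap_isUnit (S := Localization.Away (0 : R)) (0 : R)).map
      (inR R (MvPolynomial n R) (Localization.Away (0 : R)))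
    rw [map_zero, map_zero, isUnit_zero_iff] at h
    exact h.symm
  haveI : Subsingleton (PL R n (Localization.Away (0 : R))) := subsingleton_of_zero_eq_one h0.symm
  haveI : IsEmpty (O R (PL R n (Localization.Away (0 : R)))).left :=
    inferInstanceAs (IsEmpty (PrimeSpectrum (PL R n (Localization.Away (0 : R)))))
  let P : PEmpty.{u + 1} → Over (Spec (CommRingCat.of R)) := fun k => k.elim
  let u : ∀ k, P k ⟶ O R (PL R n (Localization.Away (0 : R))) := fun k => k.elim
  haveI : ∀ k, IsOpenImmersion (u k).left := fun k => k.elim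
  exact exists_glue_iso (u := u) (fun t => isEmptyElim t) (fun k => k.elim) (fun k => k.elim)

theorem mul_mem_descSet {r : R} (h : r ∈ descSet B x z) (c : R) : c * r ∈ descSet B x z := by
  have hu : IsUnit (algebraMap R (Localization.Away (c * r)) r) := by
    have := IsLocalization.Away.algebraMap_isUnit (S := Localization.Away (c * r)) (c * r)
    rw [map_mul] at this
    exact isUnit_of_mul_isUnit_right this
  obtain ⟨ψ⟩ := exists_awayHom r _ hu
  exact Triv.map h ψ

include hz in
theorem add_mem_descSet [LocallyOfFinitePresentation G.hom] {R' : Type u} [CommRing R'] [Algebra R R']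
    (σ : O R R' ⟶ B.X) (hσ : σ ≫ B.p = toUnit (O R R') ≫ z) (hcv : FpqcDescLib.Covers (O R R').hom) {a b : R}
    (ha : a ∈ descSet B x z) (hb : b ∈ descSet B x z) : a + b ∈ descSet B x z := by
  let c := a + b
  haveI : IsLocalization.Away (c * b * a) (Localization.Away (c * a * b)) := by
    rw [show c * b * a = c * a * b by ring]
    infer_instance
  have hu : ∀ r s : R, IsUnit (algebraMap R (Localization.Away (r * s)) r) ∧
      IsUnit (algebraMap R (Localization.Away (r * s)) s) := fun r s => by
    have h := IsLocalization.Away.algebraMap_isUnit (S := Localization.Away (r * s)) (r * s)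
    rw [map_mul] at h
    exact ⟨isUnit_of_mul_isUnit_left h, isUnit_of_mul_isUnit_right h⟩
  have h3 := (hu (c * a) b).1
  have h4 : IsUnit (algebraMap R (Localization.Away (c * a * b)) (c * b)) := by
    rw [map_mul] at h3 ⊢
    exact (isUnit_of_mul_isUnit_left h3).mul (hu (c * a) b).2
  obtain ⟨ψa⟩ := exists_awayHom (c * a) (Localization.Away (c * a * b)) h3
  obtain ⟨ψb⟩ := exists_awayHom (c * b) (Localization.Away (c * a * b)) h4
  obtain ⟨la⟩ := exists_awayHom a (Localization.Away (c * a)) (hu c a).2
  obtain ⟨lb⟩ := exists_awayHom b (Localization.Away (c * b)) (hu c b).2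
  obtain ⟨ca⟩ := exists_awayHom c (Localization.Away (c * a)) (hu c a).1
  obtain ⟨cb⟩ := exists_awayHom c (Localization.Away (c * b)) (hu c b).1
  obtain ⟨φa, φb, hab⟩ := exists_agree hz σ hσ hcv
    (isLocAt_away (r := c * a) (s := b) ψa rfl) (isLocAt_away (r := c * b) (s := a) ψb rfl)
    (Set.range fun k : ℕ => c ^ k)
    (fun N M => by
      obtain ⟨p, q, hpq⟩ := Ideal.mem_span_pair.mp (show c ^ (N + M) ∈ Ideal.span ({a ^ N, b ^ M} : Set R) from
        Ideal.add_pow_mem_of_pow_mem_of_le (a := a) (b := b) (m := N) (n := M) (k := N + M) _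
          (Ideal.subset_span (Set.mem_insert _ _)) (Ideal.subset_span (Set.mem_insert_of_mem _ rfl)) (Nat.le_succ _))
      exact ⟨p, q, N + M, by show c ^ (N + M) = _; rw [← hpq]; ring⟩)
    (by rintro _ ⟨k, rfl⟩; rw [map_pow]; exact (hu c a).1.pow k)
    (by rintro _ ⟨k, rfl⟩; rw [map_pow]; exact (hu c b).1.pow k)
    (Triv.map ha la) (Triv.map hb lb)
  let T := O R (PL R n (Localization.Away c))
  let P : PUnit.{u + 1} ⊕ PUnit.{u + 1} → Over (Spec (CommRingCat.of R)) := fun k =>
    match k with
    | Sum.inl _ => O R (PL R n (Localization.Away (c * a)))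
    | Sum.inr _ => O R (PL R n (Localization.Away (c * b)))
  let u : ∀ k, P k ⟶ T := fun k =>
    match k with
    | Sum.inl _ => om (pmap n ca)
    | Sum.inr _ => om (pmap n cb)
  haveI : ∀ k, IsOpenImmersion (u k).left := fun k =>
    match k with
    | Sum.inl _ => isOpenImmersion_pmap ca
    | Sum.inr _ => isOpenImmersion_pmap cb
  have hcov : ∀ t : T.left, ∃ k, t ∈ Set.range (u k).left := by
    intro t
    let i := (om (inL R (MvPolynomial n R) (Localization.Away c))).left
    have hc : (O R (MvPolynomial n R)).hom (i t) ∈ PrimeSpectrum.basicOpen c := by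
      have : i t ∈ Set.range i := ⟨t, rfl⟩
      rwa [range_inL_away c] at this
    have hab' : (O R (MvPolynomial n R)).hom (i t) ∈ PrimeSpectrum.basicOpen (c * a) ∨
        (O R (MvPolynomial n R)).hom (i t) ∈ PrimeSpectrum.basicOpen (c * b) := by
      rw [PrimeSpectrum.basicOpen_mul, PrimeSpectrum.basicOpen_mul]
      by_contra hh
      rw [not_or] at hh
      refine hc (Ideal.add_mem _ ?_ ?_)
      · exact not_not.mp fun h => hh.1 ⟨hc, h⟩
      · exact not_not.mp fun h => hh.2 ⟨hc, h⟩
    have key : ∀ {s : R} (e : Localization.Away c →ₐ[R] Localization.Away s),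
        (O R (MvPolynomial n R)).hom (i t) ∈ PrimeSpectrum.basicOpen s → t ∈ Set.range (om (pmap n e)).left := by
      intro s e hs
      have : i t ∈ Set.range (om (inL R (MvPolynomial n R) (Localization.Away s))).left := by
        rw [range_inL_away s]; exact hs
      obtain ⟨t', ht'⟩ := this
      refine ⟨t', i.isOpenEmbedding.injective ?_⟩
      rw [← ht', ← pmap_inL_eq e]
      rfl
    rcases hab' with h | h
    · exact ⟨Sum.inl PUnit.unit, key ca h⟩
    · exact ⟨Sum.inr PUnit.unit, key cb h⟩
  let ψ : ∀ k, TIso B (u k ≫ xL (Localization.Away c) x) (u k ≫ toUnit T ≫ z) := fun k =>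
    match k with
    | Sum.inl _ => φa.res (𝟙 _) _ _ ((Category.id_comp _).trans (pmap_x ca).symm)
        ((Category.id_comp _).trans (comp_toUnit_z _).symm)
    | Sum.inr _ => φb.res (𝟙 _) _ _ ((Category.id_comp _).trans (pmap_x cb).symm)
        ((Category.id_comp _).trans (comp_toUnit_z _).symm)
  have cross : ∀ (W : Over (Spec (CommRingCat.of R))) (j : W ⟶ O R (PL R n (Localization.Away (c * a))))
      (j' : W ⟶ O R (PL R n (Localization.Away (c * b)))), j ≫ om (pmap n ca) = j' ≫ om (pmap n cb) →
      ∃ m : W ⟶ O R (PL R n (Localization.Away (c * a * b))), m ≫ om (pmap n ψa) = j ∧ m ≫ om (pmap n ψb) = j' := by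
    intro W j j' e
    let ra : W ⟶ O R (Localization.Away (c * a)) := j ≫ om (inR R (MvPolynomial n R) _)
    let rb : W ⟶ O R (Localization.Away (c * b)) := j' ≫ om (inR R (MvPolynomial n R) _)
    have hr : Set.range W.hom ⊆ Set.range (O R (Localization.Away (c * a * b))).hom := by
      rintro _ ⟨w, rfl⟩
      have h1 : W.hom w ∈ PrimeSpectrum.basicOpen (c * a) := by
        show W.hom w ∈ (PrimeSpectrum.basicOpen (c * a) : Set (PrimeSpectrum R))
        rw [← range_O_away, ← Over.w ra]
        exact ⟨ra.left w, rfl⟩
      have h2 : W.hom w ∈ PrimeSpectrum.basicOpen (c * b) := by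
        show W.hom w ∈ (PrimeSpectrum.basicOpen (c * b) : Set (PrimeSpectrum R))
        rw [← range_O_away, ← Over.w rb]
        exact ⟨rb.left w, rfl⟩
      rw [range_O_away]
      show W.hom w ∈ PrimeSpectrum.basicOpen (c * a * b)
      rw [PrimeSpectrum.basicOpen_mul] at h2
      rw [PrimeSpectrum.basicOpen_mul]
      exact ⟨h1, h2.2⟩
    let r : W ⟶ O R (Localization.Away (c * a * b)) :=
      Over.homMk (IsOpenImmersion.lift (O R (Localization.Away (c * a * b))).hom W.hom hr)
        (IsOpenImmersion.lift_fac _ _ _)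
    obtain ⟨m, hm1, hm2⟩ := exists_lift_tensor (j ≫ om (inL R (MvPolynomial n R) _)) r
    refine ⟨m, tensor_hom_ext ?_ (to_away_unique _ _ _), tensor_hom_ext ?_ (to_away_unique _ _ _)⟩
    · rw [Category.assoc, pmap_inL_eq, hm1]
    · rw [Category.assoc, pmap_inL_eq, hm1]
      have h := congrArg (· ≫ om (inL R (MvPolynomial n R) _)) e
      simpa only [Category.assoc, pmap_inL_eq] using h
  refine exists_glue_iso hcov ψ fun k l W j j' e ξ h => ?_
  match k, l with
  | Sum.inl _, Sum.inl _ =>
    haveI : Mono (om (pmap n ca)) := by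
      haveI := isOpenImmersion_pmap (n := n) ca
      exact Over.mono_of_mono_left _
    exact Tra.app_congr _ ((cancel_mono (om (pmap n ca))).1 e) rfl _ _
  | Sum.inr _, Sum.inr _ =>
    haveI : Mono (om (pmap n cb)) := by
      haveI := isOpenImmersion_pmap (n := n) cb
      exact Over.mono_of_mono_left _
    exact Tra.app_congr _ ((cancel_mono (om (pmap n cb))).1 e) rfl _ _
  | Sum.inl _, Sum.inr _ =>
    obtain ⟨m, hm1, hm2⟩ := cross W j j' e
    have hξ : ξ ≫ B.p = m ≫ xL (Localization.Away (c * a * b)) x := by
      rw [h, ← hm1, Category.assoc]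
      exact congrArg (m ≫ ·) ((congrArg (_ ≫ ·) (pmap_x ca)).trans (pmap_x ψa))
    exact (φa.hom.app_congr ((Category.comp_id _).trans hm1.symm) rfl _ _).trans
      ((congrArg (fun t => Tra.app t m ξ hξ) hab).trans
        (φb.hom.app_congr (hm2.trans (Category.comp_id _).symm) rfl _ _))
  | Sum.inr _, Sum.inl _ =>
    obtain ⟨m, hm1, hm2⟩ := cross W j' j e.symm
    have hξ : ξ ≫ B.p = m ≫ xL (Localization.Away (c * a * b)) x := by
      rw [h, ← hm2, Category.assoc]
      exact congrArg (m ≫ ·) ((congrArg (_ ≫ ·) (pmap_x cb)).trans (pmap_x ψb))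
    exact (φb.hom.app_congr ((Category.comp_id _).trans hm2.symm) rfl _ _).trans
      ((congrArg (fun t => Tra.app t m ξ hξ) hab.symm).trans
        (φa.hom.app_congr (hm1.trans (Category.comp_id _).symm) rfl _ _))

end Groth.Agent.QuillenLib
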