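import Groth.Agent.QuillenLib.GlueMor

/-!
# A bundle glued from a constant bundle and the trivial bundle
-/

universe u

open CategoryTheory MonoidalCategory CartesianMonoidalCategory MonObj GrpObj AlgebraicGeometry

noncomputable section

set_option backward.isDefEq.respectTransparency false

namespace Groth.Agent.QuillenLib

instance span_map_isOpenImmersion {W Y₁ Y₂ : Scheme.{u}} (e₁ : W ⟶ Y₁) (e₂ : W ⟶ Y₂) [IsOpenImmersion e₁]
    [IsOpenImmersion e₂] {i j : Limits.WalkingSpan} (f : i ⟶ j) :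
    IsOpenImmersion ((Limits.span e₁ e₂).map f) := by
  rcases f with _ | ⟨_ | _⟩
  · exact inferInstanceAs (IsOpenImmersion ((Limits.span e₁ e₂).map (𝟙 _)))
  · assumption
  · assumption

variable {S : Scheme.{u}} {G : Over S} [GrpObj G]

omit [GrpObj G] in
theorem pt_congr {A B : Over S} {f g : A ⟶ B} (h : f = g) (t : A.left) : f.left t = g.left t := by rw [h]

omit [GrpObj G] in
theorem mem_range_whisker {E B B' : Over S} (j : B ⟶ B') (t : (E ⊗ B').left)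
    (h : (snd E B').left t ∈ Set.range j.left) : t ∈ Set.range (E ◁ j).left := by
  obtain ⟨y, hy⟩ := h
  obtain ⟨m, hm1, hm2⟩ := Scheme.Pullback.exists_preimage_pullback
    (f := (snd E B').left) (g := j.left) t y hy.symm
  let M : Over S := Over.mk (Limits.pullback.fst (snd E B').left j.left ≫ (E ⊗ B').hom)
  let k : M ⟶ E ⊗ B' := Over.homMk (Limits.pullback.fst (snd E B').left j.left) rfl
  let l : M ⟶ B := Over.homMk (Limits.pullback.snd (snd E B').left j.left) (by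
    show _ = Limits.pullback.fst (snd E B').left j.left ≫ (E ⊗ B').hom
    rw [← Over.w j, ← Over.w (snd E B'), Limits.pullback.condition_assoc])
  have hkl : k ≫ snd E B' = l ≫ j := Over.OverMorphism.ext Limits.pullback.condition
  have hfac : lift (k ≫ fst E B') l ≫ (E ◁ j) = k := by
    rw [lift_whiskerLeft, ← hkl, ← comp_lift, lift_fst_snd, Category.comp_id]
  exact ⟨(lift (k ≫ fst E B') l).left m, (pt_congr hfac m).trans hm1⟩

/-- The data for gluing a constant bundle with the trivial one. -/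
structure GlueData2 (G : Over S) [GrpObj G] where
  P : Bun G (𝟙_ (Over S))
  C : Over S
  C₁ : Over S
  C₂ : Over S
  C₁₂ : Over S
  c₁ : C₁ ⟶ C
  c₂ : C₂ ⟶ C
  j₁ : C₁₂ ⟶ C₁
  j₂ : C₁₂ ⟶ C₂
  open₁ : IsOpenImmersion c₁.left
  open₂ : IsOpenImmersion c₂.left
  openj₁ : IsOpenImmersion j₁.left
  openj₂ : IsOpenImmersion j₂.left
  comm : j₁ ≫ c₁ = j₂ ≫ c₂
  cov : ∀ t : C.left, t ∈ Set.range c₁.left ∨ t ∈ Set.range c₂.left
  factor : ∀ ⦃W : Over S⦄ (b₁ : W ⟶ C₁) (b₂ : W ⟶ C₂), b₁ ≫ c₁ = b₂ ≫ c₂ →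
    ∃ r : W ⟶ C₁₂, r ≫ j₁ = b₁ ∧ r ≫ j₂ = b₂
  σ : C₁₂ ⟶ P.X

namespace GlueData2

variable (D : GlueData2 G)

attribute [instance] GlueData2.open₁ GlueData2.open₂ GlueData2.openj₁ GlueData2.openj₂

theorem sigma_p' {W : Over S} (ξ ζ : W ⟶ D.P.X) : ξ ≫ D.P.p = ζ ≫ D.P.p := toUnit_unique _ _

/-- The overlap in the constant part. -/
def e₁ : G ⊗ D.C₁₂ ⟶ D.P.X ⊗ D.C₁ :=
  lift (D.P.sm (fst G D.C₁₂) (snd G D.C₁₂ ≫ D.σ)) (snd G D.C₁₂ ≫ D.j₁)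

/-- The overlap in the trivial part. -/
def e₂ : G ⊗ D.C₁₂ ⟶ G ⊗ D.C₂ := G ◁ D.j₂

instance whisker_open {A B E : Over S} (j : A ⟶ B) [IsOpenImmersion j.left] : IsOpenImmersion (E ◁ j).left :=
  inferInstanceAs (IsOpenImmersion (Limits.pullback.map E.hom A.hom E.hom B.hom (𝟙 _) j.left (𝟙 _) (by simp)
    (by simp)))

instance e₁_open : IsOpenImmersion D.e₁.left := by
  let θ : G ⊗ D.C₁₂ ⟶ D.P.X ⊗ D.C₁₂ :=
    lift (D.P.sm (fst G D.C₁₂) (snd G D.C₁₂ ≫ D.σ)) (snd G D.C₁₂)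
  haveI : IsIso θ := by
    obtain ⟨g, hg⟩ := D.P.trans (D.P.X ⊗ D.C₁₂) (fst D.P.X D.C₁₂) (snd D.P.X D.C₁₂ ≫ D.σ) (D.sigma_p' _ _)
    change D.P.sm g (snd D.P.X D.C₁₂ ≫ D.σ) = fst D.P.X D.C₁₂ at hg
    refine ⟨lift g (snd D.P.X D.C₁₂), ?_, ?_⟩
    · refine CartesianMonoidalCategory.hom_ext _ _ ?_ ?_
      · rw [Category.assoc, lift_fst, Category.id_comp]
        refine D.P.free _ _ _ (snd G D.C₁₂ ≫ D.σ) ?_
        show D.P.sm _ _ = D.P.sm _ _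
        have h := congrArg (θ ≫ ·) hg
        simp only [D.P.comp_sm, θ, lift_snd_assoc, lift_fst] at h
        exact h
      · simp [θ]
    · refine CartesianMonoidalCategory.hom_ext _ _ ?_ ?_
      · rw [Category.assoc, lift_fst, D.P.comp_sm, lift_fst, lift_snd_assoc, hg, Category.id_comp]
      · simp [θ]
  have e : D.e₁ = θ ≫ (D.P.X ◁ D.j₁) := by
    refine CartesianMonoidalCategory.hom_ext _ _ ?_ ?_ <;> simp [e₁, θ]
  haveI : IsIso θ.left := (Over.forget S).map_isIso θ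
  rw [e, Over.comp_left]
  infer_instance

instance e₂_open : IsOpenImmersion D.e₂.left := whisker_open D.j₂

/-- The glued scheme. -/
def Y₀ : Scheme.{u} := Limits.pushout D.e₁.left D.e₂.left

/-- The glued scheme over the base. -/
def Y : Over S :=
  Over.mk (Limits.pushout.desc (f := D.e₁.left) (g := D.e₂.left) (D.P.X ⊗ D.C₁).hom (G ⊗ D.C₂).hom
    ((Over.w D.e₁).trans (Over.w D.e₂).symm))

/-- The constant part. -/
def ι₁ : D.P.X ⊗ D.C₁ ⟶ D.Y :=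
  Over.homMk (Limits.pushout.inl D.e₁.left D.e₂.left) (Limits.pushout.inl_desc _ _ _)

/-- The trivial part. -/
def ι₂ : G ⊗ D.C₂ ⟶ D.Y :=
  Over.homMk (Limits.pushout.inr D.e₁.left D.e₂.left) (Limits.pushout.inr_desc _ _ _)

instance i1_open : IsOpenImmersion D.ι₁.left :=
  inferInstanceAs (IsOpenImmersion (Limits.colimit.ι (Limits.span D.e₁.left D.e₂.left) Limits.WalkingSpan.left))

instance i2_open : IsOpenImmersion D.ι₂.left :=
  inferInstanceAs (IsOpenImmersion (Limits.colimit.ι (Limits.span D.e₁.left D.e₂.left) Limits.WalkingSpan.right))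

theorem glue_comm : D.e₁ ≫ D.ι₁ = D.e₂ ≫ D.ι₂ := Over.OverMorphism.ext Limits.pushout.condition

theorem covY (y : D.Y.left) : y ∈ Set.range D.ι₁.left ∨ y ∈ Set.range D.ι₂.left := by
  obtain ⟨i, w, rfl⟩ := Scheme.IsLocallyDirected.ι_jointly_surjective (Limits.span D.e₁.left D.e₂.left) y
  match i with
  | none =>
    refine Or.inl ⟨D.e₁.left w, ?_⟩
    rw [← Limits.colimit.w (Limits.span D.e₁.left D.e₂.left) Limits.WalkingSpan.Hom.fst]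
    rfl
  | some Limits.WalkingPair.left => exact Or.inl ⟨w, rfl⟩
  | some Limits.WalkingPair.right => exact Or.inr ⟨w, rfl⟩

theorem exists_pY : ∃ p : D.Y ⟶ D.C, D.ι₁ ≫ p = snd D.P.X D.C₁ ≫ D.c₁ ∧ D.ι₂ ≫ p = snd G D.C₂ ≫ D.c₂ := by
  have h : D.e₁ ≫ snd D.P.X D.C₁ ≫ D.c₁ = D.e₂ ≫ snd G D.C₂ ≫ D.c₂ := by
    rw [e₁, lift_snd_assoc, e₂, whiskerLeft_snd_assoc, Category.assoc, D.comm]
  refine ⟨Over.homMk (Limits.pushout.desc (snd D.P.X D.C₁ ≫ D.c₁).left (snd G D.C₂ ≫ D.c₂).left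
    (congrArg CommaMorphism.left h)) ?_, Over.OverMorphism.ext (Limits.pushout.inl_desc _ _ _),
    Over.OverMorphism.ext (Limits.pushout.inr_desc _ _ _)⟩
  refine Limits.pushout.hom_ext ?_ ?_
  · rw [Limits.pushout.inl_desc_assoc, Over.w (snd D.P.X D.C₁ ≫ D.c₁)]
    exact (Over.w D.ι₁).symm
  · rw [Limits.pushout.inr_desc_assoc, Over.w (snd G D.C₂ ≫ D.c₂)]
    exact (Over.w D.ι₂).symm

/-- The projection. -/
def pY : D.Y ⟶ D.C := D.exists_pY.choose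

theorem i1_pY : D.ι₁ ≫ D.pY = snd D.P.X D.C₁ ≫ D.c₁ := D.exists_pY.choose_spec.1

theorem i2_pY : D.ι₂ ≫ D.pY = snd G D.C₂ ≫ D.c₂ := D.exists_pY.choose_spec.2

theorem glue_pt {T : Over S} (g : T ⟶ G) (r : T ⟶ D.C₁₂) :
    lift (D.P.sm g (r ≫ D.σ)) (r ≫ D.j₁) ≫ D.ι₁ = lift g (r ≫ D.j₂) ≫ D.ι₂ := by
  have h := congrArg (lift g r ≫ ·) D.glue_comm
  simpa only [e₁, e₂, ← Category.assoc, comp_lift, D.P.comp_sm, lift_fst, lift_snd, lift_whiskerLeft] using h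

theorem exists_on₁ {T : Over S} (ζ : T ⟶ D.Y) (b : T ⟶ D.C₁) (h : ζ ≫ D.pY = b ≫ D.c₁) :
    ∃ ξ : T ⟶ D.P.X, lift ξ b ≫ D.ι₁ = ζ := by
  have hr : Set.range ζ.left ⊆ Set.range D.ι₁.left := by
    rintro _ ⟨t, rfl⟩
    rcases D.covY (ζ.left t) with h1 | ⟨w, hw⟩
    · exact h1
    · have e : D.c₁.left (b.left t) = D.c₂.left ((snd G D.C₂).left w) := by
        have h1 := pt_congr h t
        have h2 := pt_congr D.i2_pY w
        simp only [Over.comp_left, Scheme.Hom.comp_apply] at h1 h2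
        rw [← h1, ← h2, hw]
      obtain ⟨m, hm1, hm2⟩ := Scheme.Pullback.exists_preimage_pullback (b.left t) ((snd G D.C₂).left w) e
      let M : Over S := Over.mk (Limits.pullback.fst D.c₁.left D.c₂.left ≫ D.C₁.hom)
      obtain ⟨r, -, hr2⟩ := D.factor (W := M) (Over.homMk (Limits.pullback.fst D.c₁.left D.c₂.left) rfl)
        (Over.homMk (Limits.pullback.snd D.c₁.left D.c₂.left) (by
          show _ = Limits.pullback.fst D.c₁.left D.c₂.left ≫ D.C₁.hom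
          rw [← Over.w D.c₁, ← Over.w D.c₂, Limits.pullback.condition_assoc]))
        (Over.OverMorphism.ext Limits.pullback.condition)
      have hwj : (snd G D.C₂).left w ∈ Set.range D.j₂.left := by
        refine ⟨r.left m, ?_⟩
        have h3 := pt_congr hr2 m
        simp only [Over.comp_left, Scheme.Hom.comp_apply] at h3
        exact h3.trans hm2
      obtain ⟨w', hw'⟩ : w ∈ Set.range D.e₂.left := mem_range_whisker D.j₂ w hwj
      refine ⟨D.e₁.left w', ?_⟩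
      have h5 := pt_congr D.glue_comm w'
      simp only [Over.comp_left, Scheme.Hom.comp_apply] at h5
      rw [h5, hw', hw]
  let ζ' : T ⟶ D.P.X ⊗ D.C₁ := Over.homMk (IsOpenImmersion.lift D.ι₁.left ζ.left hr) (by
    rw [← Over.w D.ι₁, IsOpenImmersion.lift_fac_assoc, Over.w ζ])
  have h2 : ζ' ≫ D.ι₁ = ζ := Over.OverMorphism.ext (IsOpenImmersion.lift_fac _ _ _)
  haveI : Mono D.c₁ := Over.mono_of_mono_left _
  refine ⟨ζ' ≫ fst D.P.X D.C₁, ?_⟩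
  have h3 : ζ' ≫ snd D.P.X D.C₁ = b := by
    rw [← cancel_mono D.c₁, ← h, Category.assoc, ← D.i1_pY, ← Category.assoc, h2]
  rw [← h3, ← comp_lift, lift_fst_snd, Category.comp_id, h2]

theorem exists_on₂ {T : Over S} (ζ : T ⟶ D.Y) (b : T ⟶ D.C₂) (h : ζ ≫ D.pY = b ≫ D.c₂) :
    ∃ g : T ⟶ G, lift g b ≫ D.ι₂ = ζ := by
  have hr : Set.range ζ.left ⊆ Set.range D.ι₂.left := by
    rintro _ ⟨t, rfl⟩
    rcases D.covY (ζ.left t) with ⟨w, hw⟩ | h1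
    · let M : Over S := Over.mk (Limits.pullback.fst D.ι₁.left ζ.left ≫ (D.P.X ⊗ D.C₁).hom)
      obtain ⟨m, hm1, hm2⟩ := Scheme.Pullback.exists_preimage_pullback w t hw
      let i : M ⟶ D.P.X ⊗ D.C₁ := Over.homMk (Limits.pullback.fst D.ι₁.left ζ.left) rfl
      let k : M ⟶ T := Over.homMk (Limits.pullback.snd D.ι₁.left ζ.left) (by
        show _ = Limits.pullback.fst D.ι₁.left ζ.left ≫ (D.P.X ⊗ D.C₁).hom
        rw [← Over.w D.ι₁, ← Over.w ζ, Limits.pullback.condition_assoc])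
      have hik : i ≫ D.ι₁ = k ≫ ζ := Over.OverMorphism.ext Limits.pullback.condition
      obtain ⟨r, hr1, hr2⟩ := D.factor (i ≫ snd _ _) (k ≫ b) (by
        rw [Category.assoc, ← D.i1_pY, ← Category.assoc, hik, Category.assoc, h, Category.assoc])
      obtain ⟨g, hg⟩ := D.P.trans M (i ≫ fst _ _) (r ≫ D.σ) (D.sigma_p' _ _)
      have hfac : lift g (k ≫ b) ≫ D.ι₂ = k ≫ ζ := by
        rw [← hr2, ← D.glue_pt, hr1, show D.P.sm g (r ≫ D.σ) = i ≫ fst _ _ from hg, ← comp_lift, lift_fst_snd,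
          Category.comp_id, hik]
      refine ⟨(lift g (k ≫ b)).left m, ?_⟩
      have h5 := pt_congr hfac m
      simp only [Over.comp_left, Scheme.Hom.comp_apply] at h5
      rw [h5]
      exact congrArg ζ.left hm2
    · exact h1
  let ζ' : T ⟶ G ⊗ D.C₂ := Over.homMk (IsOpenImmersion.lift D.ι₂.left ζ.left hr) (by
    rw [← Over.w D.ι₂, IsOpenImmersion.lift_fac_assoc, Over.w ζ])
  have h2 : ζ' ≫ D.ι₂ = ζ := Over.OverMorphism.ext (IsOpenImmersion.lift_fac _ _ _)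
  haveI : Mono D.c₂ := Over.mono_of_mono_left _
  refine ⟨ζ' ≫ fst G D.C₂, ?_⟩
  have h3 : ζ' ≫ snd G D.C₂ = b := by
    rw [← cancel_mono D.c₂, ← h, Category.assoc, ← D.i2_pY, ← Category.assoc, h2]
  rw [← h3, ← comp_lift, lift_fst_snd, Category.comp_id, h2]

theorem inj₁ {T : Over S} {ξ ξ' : T ⟶ D.P.X} {b b' : T ⟶ D.C₁} (h : lift ξ b ≫ D.ι₁ = lift ξ' b' ≫ D.ι₁) :
    ξ = ξ' ∧ b = b' := by
  haveI : Mono D.ι₁ := Over.mono_of_mono_left _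
  have h' := (cancel_mono D.ι₁).1 h
  exact ⟨by simpa using congrArg (· ≫ fst _ _) h', by simpa using congrArg (· ≫ snd _ _) h'⟩

theorem inj₂ {T : Over S} {g g' : T ⟶ G} {b b' : T ⟶ D.C₂} (h : lift g b ≫ D.ι₂ = lift g' b' ≫ D.ι₂) :
    g = g' ∧ b = b' := by
  haveI : Mono D.ι₂ := Over.mono_of_mono_left _
  have h' := (cancel_mono D.ι₂).1 h
  exact ⟨by simpa using congrArg (· ≫ fst _ _) h', by simpa using congrArg (· ≫ snd _ _) h'⟩

theorem overlap {T : Over S} {ξ : T ⟶ D.P.X} {b₁ : T ⟶ D.C₁} {g : T ⟶ G} {b₂ : T ⟶ D.C₂}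
    (h : lift ξ b₁ ≫ D.ι₁ = lift g b₂ ≫ D.ι₂) :
    ∃ r : T ⟶ D.C₁₂, r ≫ D.j₁ = b₁ ∧ r ≫ D.j₂ = b₂ ∧ ξ = D.P.sm g (r ≫ D.σ) := by
  have hb : b₁ ≫ D.c₁ = b₂ ≫ D.c₂ := by
    have h1 := congrArg (· ≫ D.pY) h
    simpa only [Category.assoc, i1_pY, i2_pY, lift_snd_assoc] using h1
  obtain ⟨r, hr1, hr2⟩ := D.factor b₁ b₂ hb
  refine ⟨r, hr1, hr2, (D.inj₁ (b := b₁) (b' := b₁) ?_).1⟩
  rw [h, ← hr1, ← hr2, D.glue_pt]

/-- To compare two maps out of a scheme mapping to the base curve, it is enough to compare on the two parts. -/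
theorem ext_parts {T K : Over S} (b : T ⟶ D.C) {f f' : T ⟶ K}
    (h₁ : ∀ (W : Over S) (i : W ⟶ T) (b₁ : W ⟶ D.C₁), b₁ ≫ D.c₁ = i ≫ b → i ≫ f = i ≫ f')
    (h₂ : ∀ (W : Over S) (i : W ⟶ T) (b₂ : W ⟶ D.C₂), b₂ ≫ D.c₂ = i ≫ b → i ≫ f = i ≫ f') : f = f' := by
  obtain ⟨T₁, u₁, b₁, _, e₁', hu₁⟩ := exists_pre D.c₁ b
  obtain ⟨T₂, u₂, b₂, _, e₂', hu₂⟩ := exists_pre D.c₂ b
  exact two_ext (u₁ := u₁) (u₂ := u₂) (fun t => (D.cov (b.left t)).imp (hu₁ t) (hu₂ t)) (h₁ _ u₁ b₁ e₁')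
    (h₂ _ u₂ b₂ e₂')

theorem exists_act : ∃ a : G ⊗ D.Y ⟶ D.Y,
    (∀ {T : Over S} (h : T ⟶ G) (ξ : T ⟶ D.P.X) (b : T ⟶ D.C₁),
      lift h (lift ξ b ≫ D.ι₁) ≫ a = lift (D.P.sm h ξ) b ≫ D.ι₁) ∧
    (∀ {T : Over S} (h g : T ⟶ G) (b : T ⟶ D.C₂),
      lift h (lift g b ≫ D.ι₂) ≫ a = lift (h * g) b ≫ D.ι₂) := by
  let f₁ : G ⊗ (D.P.X ⊗ D.C₁) ⟶ D.Y :=
    lift (D.P.sm (fst _ _) (snd _ _ ≫ fst _ _)) (snd _ _ ≫ snd _ _) ≫ D.ι₁
  let f₂ : G ⊗ (G ⊗ D.C₂) ⟶ D.Y := lift (fst _ _ * (snd _ _ ≫ fst _ _)) (snd _ _ ≫ snd _ _) ≫ D.ι₂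
  have hcov : ∀ t : (G ⊗ D.Y).left, t ∈ Set.range (G ◁ D.ι₁).left ∨ t ∈ Set.range (G ◁ D.ι₂).left := by
    intro t
    exact (D.covY _).imp (mem_range_whisker D.ι₁ t) (mem_range_whisker D.ι₂ t)
  obtain ⟨a, ha₁, ha₂⟩ := two_glue (u₁ := G ◁ D.ι₁) (u₂ := G ◁ D.ι₂) hcov f₁ f₂ fun W a₁ a₂ e => by
    have e1 := congrArg (· ≫ fst G D.Y) e
    simp only [Category.assoc, whiskerLeft_fst] at e1
    have e2 := congrArg (· ≫ snd G D.Y) e
    simp only [Category.assoc, whiskerLeft_snd] at e2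
    obtain ⟨r, hr1, hr2, hξ⟩ := D.overlap (T := W) (ξ := a₁ ≫ snd _ _ ≫ fst _ _)
      (b₁ := a₁ ≫ snd _ _ ≫ snd _ _) (g := a₂ ≫ snd _ _ ≫ fst _ _) (b₂ := a₂ ≫ snd _ _ ≫ snd _ _) (by
        rw [← comp_lift, ← comp_lift, ← comp_lift, ← comp_lift, lift_fst_snd, Category.comp_id, lift_fst_snd,
          Category.comp_id, Category.assoc, Category.assoc]
        exact e2)
    simp only [f₁, f₂, ← Category.assoc, comp_lift, D.P.comp_sm, MonObj.comp_mul]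
    simp only [Category.assoc]
    rw [hξ, D.P.sm_sm, e1, ← hr1, ← hr2, D.glue_pt]
  refine ⟨a, fun {T} h ξ b => ?_, fun {T} h g b => ?_⟩
  · rw [← lift_whiskerLeft, Category.assoc, ha₁]
    simp only [f₁, ← Category.assoc, comp_lift, D.P.comp_sm, lift_fst, lift_snd]
  · rw [← lift_whiskerLeft, Category.assoc, ha₂]
    simp only [f₂, ← Category.assoc, comp_lift, MonObj.comp_mul, lift_fst, lift_snd]

/-- The action on the glued scheme. -/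
def act : G ⊗ D.Y ⟶ D.Y := D.exists_act.choose

theorem act₁ {T : Over S} (h : T ⟶ G) (ξ : T ⟶ D.P.X) (b : T ⟶ D.C₁) :
    lift h (lift ξ b ≫ D.ι₁) ≫ D.act = lift (D.P.sm h ξ) b ≫ D.ι₁ := D.exists_act.choose_spec.1 h ξ b

theorem act₂ {T : Over S} (h g : T ⟶ G) (b : T ⟶ D.C₂) :
    lift h (lift g b ≫ D.ι₂) ≫ D.act = lift (h * g) b ≫ D.ι₂ := D.exists_act.choose_spec.2 h g b

theorem act_pY : D.act ≫ D.pY = snd G D.Y ≫ D.pY := by
  refine D.ext_parts (snd G D.Y ≫ D.pY) (fun W i b e => ?_) (fun W i b e => ?_)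
  · obtain ⟨ξ, hξ⟩ := D.exists_on₁ (i ≫ snd G D.Y) b (by rw [Category.assoc, e])
    have hi : i = lift (i ≫ fst G D.Y) (lift ξ b ≫ D.ι₁) := by
      rw [hξ, ← comp_lift, lift_fst_snd, Category.comp_id]
    rw [hi, ← Category.assoc, D.act₁, Category.assoc, D.i1_pY, lift_snd_assoc, lift_snd_assoc, Category.assoc,
      D.i1_pY, lift_snd_assoc]
  · obtain ⟨g, hg⟩ := D.exists_on₂ (i ≫ snd G D.Y) b (by rw [Category.assoc, e])
    have hi : i = lift (i ≫ fst G D.Y) (lift g b ≫ D.ι₂) := by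
      rw [hg, ← comp_lift, lift_fst_snd, Category.comp_id]
    rw [hi, ← Category.assoc, D.act₂, Category.assoc, D.i2_pY, lift_snd_assoc, lift_snd_assoc, Category.assoc,
      D.i2_pY, lift_snd_assoc]

theorem act_one {T : Over S} (ζ : T ⟶ D.Y) : lift 1 ζ ≫ D.act = ζ := by
  refine D.ext_parts (ζ ≫ D.pY) (fun W i b e => ?_) (fun W i b e => ?_)
  · obtain ⟨ξ, hξ⟩ := D.exists_on₁ (i ≫ ζ) b (by rw [Category.assoc, e])
    rw [comp_lift_assoc, MonObj.comp_one, ← hξ, D.act₁, D.P.one_sm]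
  · obtain ⟨g, hg⟩ := D.exists_on₂ (i ≫ ζ) b (by rw [Category.assoc, e])
    rw [comp_lift_assoc, MonObj.comp_one, ← hg, D.act₂, _root_.one_mul]

theorem act_mul {T : Over S} (g h : T ⟶ G) (ζ : T ⟶ D.Y) :
    lift (g * h) ζ ≫ D.act = lift g (lift h ζ ≫ D.act) ≫ D.act := by
  refine D.ext_parts (ζ ≫ D.pY) (fun W i b e => ?_) (fun W i b e => ?_)
  · obtain ⟨ξ, hξ⟩ := D.exists_on₁ (i ≫ ζ) b (by rw [Category.assoc, e])
    rw [comp_lift_assoc, comp_lift_assoc, comp_lift_assoc, MonObj.comp_mul, ← hξ, D.act₁, D.act₁, D.act₁,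
      D.P.sm_sm]
  · obtain ⟨k, hk⟩ := D.exists_on₂ (i ≫ ζ) b (by rw [Category.assoc, e])
    rw [comp_lift_assoc, comp_lift_assoc, comp_lift_assoc, MonObj.comp_mul, ← hk, D.act₂, D.act₂, D.act₂,
      _root_.mul_assoc]

/-- The action. -/
def action : AlgGrp.Action G D.Y where
  act := D.act
  one_act := by
    have e : η[G] ▷ D.Y = lift 1 (snd (𝟙_ (Over S)) D.Y) := by
      refine CartesianMonoidalCategory.hom_ext _ _ ?_ ?_
      · rw [whiskerRight_fst, lift_fst, Hom.one_def]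
        exact congrArg (· ≫ η[G]) (toUnit_unique _ _)
      · rw [whiskerRight_snd, lift_snd]
    rw [e, D.act_one, leftUnitor_hom]
  mul_act := by
    have e : μ[G] ▷ D.Y = lift ((fst _ _ ≫ fst G G) * (fst _ _ ≫ snd G G)) (snd (G ⊗ G) D.Y) := by
      refine CartesianMonoidalCategory.hom_ext _ _ ?_ ?_
      · rw [whiskerRight_fst, lift_fst, Hom.mul_def, ← comp_lift, lift_fst_snd, Category.comp_id]
      · rw [whiskerRight_snd, lift_snd]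
    rw [e, D.act_mul, ← Category.assoc (α_ _ _ _).hom]
    congr 1
    refine CartesianMonoidalCategory.hom_ext _ _ ?_ ?_
    · simp
    · rw [lift_snd, Category.assoc, whiskerLeft_snd, ← Category.assoc]
      congr 1
      refine CartesianMonoidalCategory.hom_ext _ _ ?_ ?_ <;> simp

theorem free' {T : Over S} (g h : T ⟶ G) (ζ : T ⟶ D.Y) (he : lift g ζ ≫ D.act = lift h ζ ≫ D.act) : g = h := by
  refine D.ext_parts (ζ ≫ D.pY) (fun W i b e => ?_) (fun W i b e => ?_)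
  · obtain ⟨ξ, hξ⟩ := D.exists_on₁ (i ≫ ζ) b (by rw [Category.assoc, e])
    have h1 := congrArg (i ≫ ·) he
    simp only [comp_lift_assoc, ← hξ, D.act₁] at h1
    exact D.P.free _ _ _ ξ (D.inj₁ h1).1
  · obtain ⟨k, hk⟩ := D.exists_on₂ (i ≫ ζ) b (by rw [Category.assoc, e])
    have h1 := congrArg (i ≫ ·) he
    simp only [comp_lift_assoc, ← hk, D.act₂] at h1
    exact mul_right_cancel (D.inj₂ h1).1

theorem trans' {T : Over S} (ξ ζ : T ⟶ D.Y) (h : ξ ≫ D.pY = ζ ≫ D.pY) : ∃ g : T ⟶ G, lift g ζ ≫ D.act = ξ := by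
  obtain ⟨T₁, u₁, b₁, _, e₁', hu₁⟩ := exists_pre D.c₁ (ζ ≫ D.pY)
  obtain ⟨T₂, u₂, b₂, _, e₂', hu₂⟩ := exists_pre D.c₂ (ζ ≫ D.pY)
  obtain ⟨x₁, hx₁⟩ := D.exists_on₁ (u₁ ≫ ξ) b₁ (by rw [Category.assoc, h, e₁'])
  obtain ⟨y₁, hy₁⟩ := D.exists_on₁ (u₁ ≫ ζ) b₁ (by rw [Category.assoc, e₁'])
  obtain ⟨g₁, hg₁⟩ := D.P.trans T₁ x₁ y₁ (D.sigma_p' _ _)
  obtain ⟨x₂, hx₂⟩ := D.exists_on₂ (u₂ ≫ ξ) b₂ (by rw [Category.assoc, h, e₂'])
  obtain ⟨y₂, hy₂⟩ := D.exists_on₂ (u₂ ≫ ζ) b₂ (by rw [Category.assoc, e₂'])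
  have hcov : ∀ t : T.left, t ∈ Set.range u₁.left ∨ t ∈ Set.range u₂.left := fun t =>
    (D.cov ((ζ ≫ D.pY).left t)).imp (hu₁ t) (hu₂ t)
  have hg₁' : lift g₁ (u₁ ≫ ζ) ≫ D.act = u₁ ≫ ξ := by
    rw [← hy₁, D.act₁, ← hx₁]
    exact congrArg (fun t => lift t b₁ ≫ D.ι₁) hg₁
  have hg₂' : lift (x₂ * y₂⁻¹) (u₂ ≫ ζ) ≫ D.act = u₂ ≫ ξ := by
    rw [← hy₂, D.act₂, ← hx₂, inv_mul_cancel_right]
  obtain ⟨g, hga, hgb⟩ := two_glue (u₁ := u₁) (u₂ := u₂) hcov g₁ (x₂ * y₂⁻¹) fun W a₁ a₂ e => by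
    refine D.free' _ _ (a₁ ≫ u₁ ≫ ζ) ?_
    have h1 := congrArg (a₁ ≫ ·) hg₁'
    have h2 := congrArg (a₂ ≫ ·) hg₂'
    simp only [comp_lift_assoc] at h1 h2
    rw [h1, show a₁ ≫ u₁ ≫ ζ = a₂ ≫ u₂ ≫ ζ by rw [← Category.assoc, e, Category.assoc], h2, ← Category.assoc, e,
      Category.assoc]
  refine ⟨g, two_ext (u₁ := u₁) (u₂ := u₂) hcov ?_ ?_⟩
  · rw [comp_lift_assoc, hga, hg₁']
  · rw [comp_lift_assoc, hgb, hg₂']

/-- The glued bundle. -/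
def bun : Bun G D.C where
  X := D.Y
  act := D.action
  p := D.pY
  act_p := D.act_pY
  trans _ := D.trans'
  free _ := D.free'

end GlueData2

end Groth.Agent.QuillenLib
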