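import Groth.Agent.QuillenLib.BunOf

/-!
# The torsor of a bundle
-/

universe u

open CategoryTheory CategoryTheory.Limits MonoidalCategory CartesianMonoidalCategory MonObj GrpObj AlgebraicGeometry

noncomputable section

set_option backward.isDefEq.respectTransparency false
set_option backward.isDefEq.respectTransparency.types false

namespace Groth.Agent.QuillenLib

variable {S₀ A : Scheme.{u}} (a : A ⟶ S₀) {G : Over S₀} [GrpObj G] (B : Bun G (Over.mk a))

/-- The scheme of the bundle over the base curve. -/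
abbrev upX : Over A := Over.mk B.p.left

/-- The structure map of the bundle seen as an object over the base. -/
def upPr (W' : Over A) : low a W' ⟶ Over.mk a := pr a W'

/-- The point of the group under a point of its base change. -/
def gpt {W' : Over A} (g' : W' ⟶ Red.bc a G) : low a W' ⟶ G :=
  (lg_surjective a (pr a W') (g' : Over.mk (pr a W').left ⟶ Red.bc a G)).choose

theorem lg_gpt {W' : Over A} (g' : W' ⟶ Red.bc a G) : lg a (pr a W') (gpt a g') = g' :=
  (lg_surjective a (pr a W') (g' : Over.mk (pr a W').left ⟶ Red.bc a G)).choose_spec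

/-- The point of the bundle under a point over the base curve. -/
def xpt {W' : Over A} (x : W' ⟶ upX a B) : low a W' ⟶ B.X :=
  Over.homMk x.left (by
    show x.left ≫ B.X.hom = W'.hom ≫ a
    rw [← Over.w B.p, ← Category.assoc]
    exact congrArg (· ≫ a) (Over.w x))

theorem xpt_p {W' : Over A} (x : W' ⟶ upX a B) : xpt a B x ≫ B.p = pr a W' := Over.OverMorphism.ext (Over.w x)

theorem gpt_mul {W' : Over A} (g h : W' ⟶ Red.bc a G) : gpt a (g * h) = gpt a g * gpt a h := by
  refine lg_injective a (pr a W') ?_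
  rw [lg_mul, lg_gpt, lg_gpt, lg_gpt]

theorem gpt_one {W' : Over A} : gpt a (1 : W' ⟶ Red.bc a G) = 1 := by
  refine lg_injective a (pr a W') ?_
  rw [lg_one, lg_gpt]

theorem gpt_nat {W W' : Over A} (k : W ⟶ W') (g' : W' ⟶ Red.bc a G) :
    (Over.homMk k.left (show k.left ≫ W'.hom ≫ a = W.hom ≫ a by rw [Over.w_assoc]) : low a W ⟶ low a W') ≫
      gpt a g' = gpt a (k ≫ g') := by
  refine lg_injective a (pr a W) ?_
  rw [lg_gpt]
  refine Over.OverMorphism.ext (pullback.hom_ext ?_ ((Over.w _).trans (Over.w (k ≫ g')).symm))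
  rw [lg_fst]
  show k.left ≫ (gpt a g').left = (k.left ≫ g'.left) ≫ _
  rw [Category.assoc]
  conv_rhs => rw [← lg_gpt a g', lg_fst]

/-- The action over the base curve. -/
def upAct : Red.bc a G ⊗ upX a B ⟶ upX a B :=
  Over.homMk (B.sm (gpt a (fst (Red.bc a G) (upX a B))) (xpt a B (snd (Red.bc a G) (upX a B)))).left (by
    show _ ≫ B.p.left = _
    rw [← Over.comp_left, B.sm_p, xpt_p]
    rfl)

theorem upAct_left {W' : Over A} (g' : W' ⟶ Red.bc a G) (x : W' ⟶ upX a B) :
    (lift g' x ≫ upAct a B).left = (B.sm (gpt a g') (xpt a B x)).left := by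
  let k : low a W' ⟶ low a (Red.bc a G ⊗ upX a B) :=
    Over.homMk (lift g' x).left (show (lift g' x).left ≫ (Red.bc a G ⊗ upX a B).hom ≫ a = W'.hom ≫ a by
      rw [Over.w_assoc])
  have e1 : k ≫ gpt a (fst (Red.bc a G) (upX a B)) = gpt a g' := by
    rw [gpt_nat, lift_fst]
  have e2 : k ≫ xpt a B (snd (Red.bc a G) (upX a B)) = xpt a B x :=
    Over.OverMorphism.ext (congrArg CommaMorphism.left (lift_snd g' x) :)
  rw [← e1, ← e2, ← B.comp_sm]
  rfl

theorem xpt_act {W' : Over A} (g' : W' ⟶ Red.bc a G) (x : W' ⟶ upX a B) :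
    xpt a B (lift g' x ≫ upAct a B) = B.sm (gpt a g') (xpt a B x) :=
  Over.OverMorphism.ext (upAct_left a B g' x)

theorem upAct_one {W' : Over A} (x : W' ⟶ upX a B) : lift 1 x ≫ upAct a B = x := by
  refine Over.OverMorphism.ext ?_
  rw [upAct_left, gpt_one, B.one_sm]
  rfl

theorem upAct_mul {W' : Over A} (g h : W' ⟶ Red.bc a G) (x : W' ⟶ upX a B) :
    lift (g * h) x ≫ upAct a B = lift g (lift h x ≫ upAct a B) ≫ upAct a B := by
  refine Over.OverMorphism.ext ?_
  rw [upAct_left, upAct_left, gpt_mul, xpt_act, B.sm_sm]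

/-- The action of the base-changed group. -/
def upAction : AlgGrp.Action (Red.bc a G) (upX a B) where
  act := upAct a B
  one_act := by
    have e : η[Red.bc a G] ▷ upX a B = lift 1 (snd (𝟙_ (Over A)) (upX a B)) := by
      refine CartesianMonoidalCategory.hom_ext _ _ ?_ ?_
      · rw [whiskerRight_fst, lift_fst, Hom.one_def]
        exact congrArg (· ≫ η[Red.bc a G]) (toUnit_unique _ _)
      · rw [whiskerRight_snd, lift_snd]
    rw [e, upAct_one, leftUnitor_hom]
  mul_act := by
    have e : μ[Red.bc a G] ▷ upX a B =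
        lift ((fst _ _ ≫ fst (Red.bc a G) (Red.bc a G)) * (fst _ _ ≫ snd (Red.bc a G) (Red.bc a G)))
          (snd (Red.bc a G ⊗ Red.bc a G) (upX a B)) := by
      refine CartesianMonoidalCategory.hom_ext _ _ ?_ ?_
      · rw [whiskerRight_fst, lift_fst, Hom.mul_def, ← comp_lift, lift_fst_snd, Category.comp_id]
      · rw [whiskerRight_snd, lift_snd]
    rw [e, upAct_mul, ← Category.assoc (α_ _ _ _).hom]
    congr 1
    refine CartesianMonoidalCategory.hom_ext _ _ ?_ ?_
    · simp
    · rw [lift_snd, Category.assoc, whiskerLeft_snd, ← Category.assoc]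
      congr 1
      refine CartesianMonoidalCategory.hom_ext _ _ ?_ ?_ <;> simp

theorem isPseudoTorsorSch_upAction : NonAbH1.IsPseudoTorsorSch (upAction a B) := by
  let W := upX a B ⊗ upX a B
  obtain ⟨g, hg⟩ := B.trans (low a W) (xpt a B (fst (upX a B) (upX a B))) (xpt a B (snd (upX a B) (upX a B)))
    ((xpt_p a B _).trans (xpt_p a B _).symm)
  let g' : W ⟶ Red.bc a G := lg a (pr a W) g
  have hgg : gpt a g' = g := lg_injective a (pr a W) (lg_gpt a g')
  have hfree : ∀ {W' : Over A} (g h : W' ⟶ Red.bc a G) (x : W' ⟶ upX a B),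
      lift g x ≫ upAct a B = lift h x ≫ upAct a B → g = h := fun {W'} g h x e => by
    rw [← lg_gpt a g, ← lg_gpt a h]
    congr 1
    refine B.free _ _ _ (xpt a B x) ?_
    show B.sm _ _ = B.sm _ _
    rw [← xpt_act, ← xpt_act, e]
  have hinv : lift g' (snd (upX a B) (upX a B)) ≫ upAct a B = fst (upX a B) (upX a B) := by
    refine Over.OverMorphism.ext ?_
    rw [upAct_left, hgg]
    exact congrArg CommaMorphism.left hg
  refine ⟨lift g' (snd (upX a B) (upX a B)), ?_, ?_⟩
  · refine CartesianMonoidalCategory.hom_ext _ _ ?_ ?_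
    · rw [Category.assoc, lift_fst, Category.id_comp]
      refine hfree _ _ (snd (Red.bc a G) (upX a B)) ?_
      have h := congrArg (lift (upAction a B).act (snd (Red.bc a G) (upX a B)) ≫ ·) hinv
      simp only [comp_lift_assoc, lift_fst, lift_snd] at h
      rw [h]
      show upAct a B = _
      rw [lift_fst_snd, Category.id_comp]
    · simp
  · refine CartesianMonoidalCategory.hom_ext _ _ ?_ ?_
    · rw [Category.assoc, lift_fst, Category.id_comp]
      exact hinv
    · simp

/-- Points of the bundle as points of the bundle of its torsor. -/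
theorem bunOf_upAction_sm {W : Over S₀} (g : W ⟶ G) (ξ : W ⟶ low a (upX a B)) :
    ((bunOf a (upAction a B) (isPseudoTorsorSch_upAction a B)).sm g ξ).left =
      (B.sm g (Over.homMk ξ.left (show ξ.left ≫ B.X.hom = W.hom by
        rw [← Over.w B.p]; exact Over.w ξ))).left := by
  rw [bunOf_sm_left a (upAction a B) (isPseudoTorsorSch_upAction a B) (ξ ≫ pr a (upX a B)) g ξ rfl]
  show (lift (lg a (ξ ≫ pr a (upX a B)) g) (pt a (upX a B) (ξ ≫ pr a (upX a B)) ξ rfl) ≫ upAct a B).left = _
  rw [upAct_left]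
  let i : W ⟶ low a (Over.mk (ξ ≫ pr a (upX a B)).left) := Over.homMk (𝟙 W.left) (by
    show 𝟙 _ ≫ (ξ ≫ pr a (upX a B)).left ≫ a = W.hom
    rw [Category.id_comp]
    exact Over.w (ξ ≫ pr a (upX a B)))
  have h1 : i ≫ gpt a (lg a (ξ ≫ pr a (upX a B)) g) = g := by
    refine Over.OverMorphism.ext ?_
    have h := congrArg (fun t => t.left ≫ pullback.fst G.hom a) (lg_gpt a (lg a (ξ ≫ pr a (upX a B)) g))
    simp only [lg_fst] at h
    show 𝟙 _ ≫ _ = _
    rw [Category.id_comp]
    exact h
  have h2 : i ≫ xpt a B (pt a (upX a B) (ξ ≫ pr a (upX a B)) ξ rfl) =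
      (Over.homMk ξ.left (show ξ.left ≫ B.X.hom = W.hom by rw [← Over.w B.p]; exact Over.w ξ) : W ⟶ B.X) :=
    Over.OverMorphism.ext (Category.id_comp _)
  rw [← h2]
  conv_rhs => rw [← h1, ← B.comp_sm]
  exact (Category.id_comp _).symm

end Groth.Agent.QuillenLib
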