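import Groth.Agent.QuillenLib.AffineSetup
import Groth.Agent.QuillenLib.TorGlue
import Groth.Agent.QuillenLib.TorOf
import Groth.Agent.IndEtLib.Localization
import Groth.Agent.SchTorsor.Props
import Mathlib.Algebra.MvPolynomial.Equiv
import Mathlib.Algebra.Polynomial.Reverse
import Mathlib.RingTheory.AdjoinRoot

/-!
# Torsors on the affine line with local sections
-/

universe u

open CategoryTheory CategoryTheory.Limits MonoidalCategory CartesianMonoidalCategory MonObj GrpObj AlgebraicGeometry Polynomial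

noncomputable section

set_option backward.isDefEq.respectTransparency false
set_option backward.isDefEq.respectTransparency.types false

namespace Groth.Agent.QuillenLib

/-- Two sections give a transport. -/
theorem tiso_of_sections {S : Scheme.{u}} {G A : Over S} [GrpObj G] (B : Bun G A) {T : Over S} {x y : T ⟶ A}
    (s s' : T ⟶ B.X) (hs : s ≫ B.p = x) (hs' : s' ≫ B.p = y) : Nonempty (TIso B x y) := by
  have key : ∀ (x y : T ⟶ A) (s s' : T ⟶ B.X) (hs : s ≫ B.p = x) (_ : s' ≫ B.p = y),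
      ∃ φ : Tra B x y, ∀ ⦃W : Over S⦄ (w : W ⟶ T) (g : W ⟶ G) (h : B.sm g (w ≫ s) ≫ B.p = w ≫ x),
        φ.app w (B.sm g (w ≫ s)) h = B.sm g (w ≫ s') := by
    intro x y s s' hs hs'
    have h0 : ∀ ⦃W : Over S⦄ (w : W ⟶ T) (ξ : W ⟶ B.X), ξ ≫ B.p = w ≫ x → ξ ≫ B.p = (w ≫ s) ≫ B.p :=
      fun W w ξ h => by rw [h, Category.assoc, hs]
    choose d hd using fun (W : Over S) (w : W ⟶ T) (ξ : W ⟶ B.X) (h : ξ ≫ B.p = w ≫ x) =>
      B.trans W ξ (w ≫ s) (h0 w ξ h)
    refine ⟨⟨fun W w ξ h => B.sm (d W w ξ h) (w ≫ s'), fun W w ξ h => by rw [B.sm_p, Category.assoc, hs'],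
      fun W W' k w ξ h => ?_, fun W w g ξ h => ?_⟩, fun W w g h => ?_⟩
    · rw [B.comp_sm]
      refine Eq.trans (congrArg (B.sm _) (Category.assoc k w s').symm) ?_
      congr 1
      refine B.free _ _ _ ((k ≫ w) ≫ s) ?_
      rw [hd]
      show B.sm _ _ = _
      rw [Category.assoc, ← B.comp_sm, show B.sm (d W w ξ h) (w ≫ s) = ξ from hd W w ξ h]
    · rw [B.sm_sm]
      congr 1
      refine B.free _ _ _ (w ≫ s) ?_
      rw [hd]
      show _ = B.sm _ _
      rw [← B.sm_sm, show B.sm (d W w ξ h) (w ≫ s) = ξ from hd W w ξ h]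
    · show B.sm (d W w _ h) (w ≫ s') = _
      congr 1
      exact B.free _ _ _ (w ≫ s) (hd W w _ h)
  obtain ⟨φ, hφ⟩ := key x y s s' hs hs'
  obtain ⟨ψ, hψ⟩ := key y x s' s hs' hs
  have inv : ∀ {x y : T ⟶ A} {s s' : T ⟶ B.X} (hs : s ≫ B.p = x) (hs' : s' ≫ B.p = y) (φ : Tra B x y) (ψ : Tra B y x)
      (_ : ∀ ⦃W : Over S⦄ (w : W ⟶ T) (g : W ⟶ G) (h : B.sm g (w ≫ s) ≫ B.p = w ≫ x),
        φ.app w (B.sm g (w ≫ s)) h = B.sm g (w ≫ s'))
      (_ : ∀ ⦃W : Over S⦄ (w : W ⟶ T) (g : W ⟶ G) (h : B.sm g (w ≫ s') ≫ B.p = w ≫ y),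
        ψ.app w (B.sm g (w ≫ s')) h = B.sm g (w ≫ s)), φ.comp ψ = Tra.id x := by
    intro x y s s' hs hs' φ ψ hφ hψ
    refine Tra.ext fun W w ξ h => ?_
    obtain ⟨g, hg⟩ := B.trans W ξ (w ≫ s) (by rw [h, Category.assoc, hs])
    change B.sm g (w ≫ s) = ξ at hg
    subst hg
    show ψ.app w (φ.app w _ h) _ = _
    have h' : B.sm g (w ≫ s') ≫ B.p = w ≫ y := by rw [B.sm_p, Category.assoc, hs']
    rw [ψ.app_congr rfl (hφ w g h) _ h', hψ]
    rfl
  exact ⟨⟨φ, ψ, inv hs hs' φ ψ hφ hψ, inv hs' hs ψ φ hψ hφ⟩⟩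

variable {R : Type u} [CommRing R] {G : Over (Spec (CommRingCat.of R))} [GrpObj G]

/-- The affine line. -/
abbrev aL (R : Type u) [CommRing R] : Spec (CommRingCat.of R[X]) ⟶ Spec (CommRingCat.of R) :=
  Spec.map (CommRingCat.ofHom (algebraMap R R[X]))

/-- The coordinate of the line. -/
def lineIso (R : Type u) [CommRing R] : O R (MvPolynomial PUnit.{u + 1} R) ≅ Over.mk (aL R) where
  hom := om (MvPolynomial.pUnitAlgEquiv R).symm.toAlgHom
  inv := om (MvPolynomial.pUnitAlgEquiv R).toAlgHom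
  hom_inv_id := by
    rw [← om_comp, ← om_id]
    congr 1
    exact AlgHom.ext fun p => (MvPolynomial.pUnitAlgEquiv R).symm_apply_apply p
  inv_hom_id := by
    show _ = 𝟙 (O R R[X])
    rw [← om_comp, ← om_id]
    congr 1
    exact AlgHom.ext fun p => (MvPolynomial.pUnitAlgEquiv R).apply_symm_apply p

/-- The zero section of the line. -/
abbrev zL (R : Type u) [CommRing R] : 𝟙_ (Over (Spec (CommRingCat.of R))) ⟶ Over.mk (aL R) :=
  zsec R PUnit.{u + 1} (lineIso R)

theorem toUnit_zL : toUnit (O R R) ≫ zL R = om (ev0 R R) := by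
  rw [← zsec_spec R PUnit.{u + 1} (lineIso R)]
  show om _ ≫ om _ = _
  rw [← om_comp]
  congr 1
  refine polyHom_ext (fun a => ?_) ?_
  · simp [ev0]
  · simp [ev0]

variable (Y : NonAbH1.TorsorSch (Red.bc (aL R) G) Scheme.fppfPrecoverage)

/-- A point over an algebra under the coordinate ring. -/
def Sec {P : Type u} [CommRing P] [Algebra R P] (φ : R[X] →ₐ[R] P) : Prop :=
  ∃ s : O R P ⟶ (bunX (aL R) Y).X, s ≫ (bunX (aL R) Y).p = om φ

theorem Sec.map {P Q : Type u} [CommRing P] [CommRing Q] [Algebra R P] [Algebra R Q] {φ : R[X] →ₐ[R] P}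
    (h : Sec Y φ) (ψ : P →ₐ[R] Q) {χ : R[X] →ₐ[R] Q} (e : ψ.comp φ = χ) : Sec Y χ := by
  obtain ⟨s, hs⟩ := h
  exact ⟨om ψ ≫ s, by rw [Category.assoc, hs, ← om_comp, e]⟩

/-- The coordinate ring over the local ring. -/
abbrev locMap (m : Ideal R) [m.IsMaximal] : R[X] →ₐ[R] (Localization.AtPrime m)[X] :=
  mapAlgHom (Algebra.ofId R (Localization.AtPrime m))

/-- A section over a localisation spreads to a basic open. -/
theorem exists_stage_of_section {A B : Type u} [CommRing A] [CommRing B] [Algebra A B] (M : Submonoid A)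
    [IsLocalization M B] {X : Scheme.{u}} (p : X ⟶ Spec (CommRingCat.of A)) [LocallyOfFinitePresentation p]
    (s : Spec (CommRingCat.of B) ⟶ X) (hs : s ≫ p = Spec.map (CommRingCat.ofHom (algebraMap A B))) :
    ∃ (m : A), m ∈ M ∧ ∃ σ : Spec (CommRingCat.of (Localization.Away m)) ⟶ X,
      σ ≫ p = Spec.map (CommRingCat.ofHom (algebraMap A (Localization.Away m))) := by
  obtain ⟨hcol⟩ := IndEtLib.nonempty_isColimit_locCocone M B
  let F := IndEtLib.locDiagram M ⋙ Under.forget _
  haveI : IsConnected (IndEtLib.LocIdx M) := IsFiltered.isConnected _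
  have hc0 := isColimitOfPreserves (Under.forget (CommRingCat.of A)) hcol
  let D : (IndEtLib.LocIdx M)ᵒᵖ ⥤ Scheme.{u} := F.op ⋙ Scheme.Spec
  let c : Cone D := Scheme.Spec.mapCone ((Under.forget _).mapCocone (IndEtLib.locCocone M B)).op
  have hc : IsLimit c := isLimitOfPreserves Scheme.Spec hc0.op
  let t : D ⟶ (Functor.const _).obj (Spec (CommRingCat.of A)) :=
    { app := fun i => Spec.map (CommRingCat.ofHom (algebraMap A (i.unop).Stage))
      naturality := fun i j f => by
        show Spec.map _ ≫ Spec.map _ = Spec.map _ ≫ 𝟙 _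
        rw [Category.comp_id, ← Spec.map_comp]
        congr 1
        refine CommRingCat.hom_ext (RingHom.ext fun p => ?_)
        exact (IndEtLib.LocIdx.tr f.unop.le).commutes p }
  have haff : ∀ {P Q : CommRingCat.{u}} (φ : P ⟶ Q), IsAffineHom (Spec.map φ) := fun φ => inferInstance
  have : ∀ {i j : (IndEtLib.LocIdx M)ᵒᵖ} (f : i ⟶ j), IsAffineHom (D.map f) := fun {i j} f =>
    haff (F.map f.unop)
  have : ∀ i, CompactSpace (D.obj i) := fun i => inferInstanceAs (CompactSpace (Spec _))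
  have : ∀ i, QuasiSeparatedSpace (D.obj i) := fun i => inferInstanceAs (QuasiSeparatedSpace (Spec _))
  have hx : ∀ i, c.π.app i ≫ t.app i = s ≫ p := by
    intro i
    rw [hs]
    show Spec.map _ ≫ Spec.map _ = Spec.map _
    rw [← Spec.map_comp]
    congr 1
    refine CommRingCat.hom_ext (RingHom.ext fun p => ?_)
    exact (IndEtLib.LocIdx.toLoc B i.unop).commutes p
  obtain ⟨i, σ, -, hσ⟩ := Scheme.exists_π_app_comp_eq_of_locallyOfFinitePresentation D t p c hc s
    (NatTrans.ext (funext fun i => hx i))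
  exact ⟨i.unop.el, Subtype.prop i.unop, σ, hσ⟩

/-- A local section spreads. -/
theorem exists_desc_of_sec [LocallyOfFinitePresentation G.hom] (m : Ideal R) [m.IsMaximal]
    (h : Sec Y (locMap m)) :
    ∃ r, r ∉ m ∧ r ∈ descSet (bunX (aL R) Y) (lineIso R).hom (zL R) := by
  obtain ⟨s, hs⟩ := h
  let L := Localization.AtPrime m
  let M : Submonoid R[X] := m.primeCompl.map (Polynomial.C : R →+* R[X])
  letI : Algebra R[X] L[X] := Polynomial.algebra R L
  haveI : IsLocalization M L[X] := Polynomial.isLocalization m.primeCompl L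
  haveI : LocallyOfFinitePresentation (Red.bc (aL R) G).hom :=
    inferInstanceAs (LocallyOfFinitePresentation (pullback.snd G.hom (aL R)))
  haveI : LocallyOfFinitePresentation Y.X.hom :=
    SchTorsor.torsor_property @LocallyOfFinitePresentation (isTorsorFor_fpqc Y.isTorsor) inferInstance
  obtain ⟨d, hd, σ, hσ⟩ := exists_stage_of_section M Y.X.hom s.left (congrArg CommaMorphism.left hs)
  obtain ⟨r, hr, hrC⟩ : ∃ r ∈ m.primeCompl, Polynomial.C r = d := hd
  refine ⟨r, hr, ?_⟩
  let eq := MvPolynomial.pUnitAlgEquiv.{u, u} R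
  let e : R[X] →ₐ[R] PL R PUnit.{u + 1} (Localization.Away r) :=
    (inL R (MvPolynomial PUnit.{u + 1} R) (Localization.Away r)).comp eq.symm.toAlgHom
  have hu : IsUnit (e.toRingHom d) := by
    show IsUnit (e d)
    rw [← hrC]
    show IsUnit (e (algebraMap R R[X] r))
    rw [AlgHom.commutes, ← (inR R (MvPolynomial PUnit.{u + 1} R) (Localization.Away r)).commutes]
    exact (IsLocalization.Away.algebraMap_isUnit r).map _
  let ψ := IsLocalization.Away.lift (S := (Localization.Away d)) d hu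
  have hψ : ψ.comp (algebraMap R[X] (Localization.Away d)) = e.toRingHom := IsLocalization.Away.lift_comp _ hu
  have hsec : (Spec.map (CommRingCat.ofHom ψ) ≫ σ) ≫ Y.X.hom = (om e).left := by
    rw [Category.assoc]
    refine (congrArg (_ ≫ ·) hσ).trans ?_
    show Spec.map _ ≫ Spec.map _ = Spec.map _
    rw [← Spec.map_comp, ← CommRingCat.ofHom_comp]
    exact congrArg (fun f => Spec.map (CommRingCat.ofHom f)) hψ
  let s₁ : O R (PL R PUnit.{u + 1} (Localization.Away r)) ⟶ (bunX (aL R) Y).X :=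
    Over.homMk (Spec.map (CommRingCat.ofHom ψ) ≫ σ) (by
      show _ ≫ Y.X.hom ≫ aL R = _
      rw [← Category.assoc, hsec]
      exact Over.w (om e))
  have hs₁ : s₁ ≫ (bunX (aL R) Y).p = xL (Localization.Away r) (lineIso R).hom := by
    refine (Over.OverMorphism.ext hsec : s₁ ≫ (bunX (aL R) Y).p = om e).trans ?_
    exact om_comp _ _
  exact tiso_of_sections _ s₁ (om (zeroEnd R PUnit.{u + 1} (Localization.Away r)) ≫ s₁) hs₁
    (by rw [Category.assoc, hs₁, zeroEnd_x (zsec_spec R PUnit.{u + 1} (lineIso R))])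

/-- Local sections make the torsor constant. -/
theorem exists_tiso_of_secs [LocallyOfFinitePresentation G.hom]
    (h : ∀ (m : Ideal R) [m.IsMaximal], Sec Y (locMap m)) :
    Nonempty (TIso (bunX (aL R) Y) (𝟙 (Over.mk (aL R))) (toUnit (Over.mk (aL R)) ≫ zL R)) := by
  obtain ⟨R', _, _, σ, hσ, hcv⟩ := exists_cover (lineIso R) Y
  let I : Ideal R :=
    { carrier := descSet (bunX (aL R) Y) (lineIso R).hom (zL R)
      add_mem' := fun {a b} ha hb => add_mem_descSet (zsec_spec R PUnit.{u + 1} (lineIso R)) σ hσ hcv ha hb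
      zero_mem' := zero_mem_descSet
      smul_mem' := fun c r hr => mul_mem_descSet hr c }
  have h1 : (1 : R) ∈ I := by
    rw [← Ideal.eq_top_iff_one]
    by_contra hne
    obtain ⟨m, hm, hIm⟩ := Ideal.exists_le_maximal I hne
    obtain ⟨r, hrm, hrI⟩ := exists_desc_of_sec Y m (h m)
    exact hrm (hIm hrI)
  obtain ⟨ψ⟩ := exists_awayHom (1 : R) R (by rw [map_one]; exact isUnit_one)
  obtain ⟨θ⟩ := Triv.map (L' := R) (show Triv (Localization.Away (1 : R)) (bunX (aL R) Y) (lineIso R).hom (zL R) from h1) ψ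
  let ρ : PL R PUnit.{u + 1} R →ₐ[R] R[X] :=
    Algebra.TensorProduct.productMap (MvPolynomial.pUnitAlgEquiv.{u, u} R).toAlgHom (Algebra.ofId R R[X])
  have hρ : om ρ ≫ xL R (lineIso R).hom = 𝟙 (Over.mk (aL R)) := by
    rw [← Category.assoc, ← om_comp, Algebra.TensorProduct.productMap_left]
    exact (lineIso R).inv_hom_id
  exact ⟨θ.res (om ρ) _ _ hρ (comp_toUnit_z (T := O R (PL R PUnit.{u + 1} R)) (T' := O R R[X]) (om ρ))⟩

/-- The hypothesis on the local rings. -/
def HLoc (G : Over (Spec (CommRingCat.of R))) [GrpObj G] : Prop :=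
  ∀ (m : Ideal R) [m.IsMaximal]
    (Z : NonAbH1.TorsorSch (Red.bc (Spec.map (CommRingCat.ofHom (algebraMap (Localization.AtPrime m) (Polynomial (Localization.AtPrime m))))) (Red.bc (Spec.map (CommRingCat.ofHom (algebraMap R (Localization.AtPrime m)))) G)) Scheme.fppfPrecoverage),
    (∃ I : Ideal (Polynomial (Localization.AtPrime m)), Module.Finite (Localization.AtPrime m) (Polynomial (Localization.AtPrime m) ⧸ I) ∧
      NonAbH1.HasSectionOver Z.X (Scheme.Opens.ι
        (⟨(PrimeSpectrum.zeroLocus (I : Set (Polynomial (Localization.AtPrime m))))ᶜ,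
          (PrimeSpectrum.isClosed_zeroLocus _).isOpen_compl⟩ : (Spec (CommRingCat.of (Polynomial (Localization.AtPrime m)))).Opens))) →
    NonAbH1.HasSectionOver Z.X (𝟙 (Spec (CommRingCat.of (Polynomial (Localization.AtPrime m)))))

theorem sec_of_hloc (hl : HLoc G) (m : Ideal R) [m.IsMaximal] (h : (Localization.AtPrime m)[X]) (hh : h.Monic)
    (hsec : Sec Y ((IsScalarTower.toAlgHom R (Localization.AtPrime m)[X] (Localization.Away h)).comp (locMap m))) :
    Sec Y (locMap m) := by
  let L := Localization.AtPrime m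
  let g := Spec.map (CommRingCat.ofHom (algebraMap R L))
  let f := Spec.map (CommRingCat.ofHom (algebraMap L L[X]))
  let w : Spec (CommRingCat.of L[X]) ⟶ Spec (CommRingCat.of R[X]) := (om (locMap m)).left
  have hw : w ≫ aL R = f ≫ g := by
    refine (Over.w (om (locMap m))).trans ?_
    show Spec.map _ = Spec.map _ ≫ Spec.map _
    rw [← Spec.map_comp, ← CommRingCat.ofHom_comp, ← IsScalarTower.algebraMap_eq]
  let α := ((Y.act.bc w).restrict (ActBC.bcCompIso w (aL R) G hw).inv).restrict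
    (ActBC.bcCompIso f g G (rfl : f ≫ g = f ≫ g)).hom
  have hα : NonAbH1.IsTorsorFor Scheme.fppfPrecoverage α :=
    isTorsorFor_restrict (isTorsorFor_restrict (NonAbH1.isTorsorFor_bc w _ Y.isTorsor) _) _
  obtain ⟨s, hs⟩ := hsec
  let a : L[X] →+* Localization.Away h := algebraMap _ _
  have hs' : s.left ≫ Y.X.hom = Spec.map (CommRingCat.ofHom a) ≫ w := by
    refine (congrArg CommaMorphism.left hs).trans ?_
    rw [om_comp]
    rfl
  let U : (Spec (CommRingCat.of L[X])).Opens :=
    ⟨(PrimeSpectrum.zeroLocus ((Ideal.span {h} : Ideal L[X]) : Set L[X]))ᶜ,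
      (PrimeSpectrum.isClosed_zeroLocus _).isOpen_compl⟩
  haveI : IsOpenImmersion (Spec.map (CommRingCat.ofHom a)) :=
    inferInstanceAs (IsOpenImmersion (Spec.map (CommRingCat.ofHom (algebraMap L[X] (Localization.Away h)))))
  let l := IsOpenImmersion.lift (Spec.map (CommRingCat.ofHom a)) U.ι (by
    rw [Scheme.Opens.range_ι]
    intro p hp
    have hp' : p ∈ (PrimeSpectrum.basicOpen h : Set (PrimeSpectrum L[X])) := by
      rw [PrimeSpectrum.basicOpen_eq_zeroLocus_compl, ← PrimeSpectrum.zeroLocus_span]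
      exact hp
    rw [← PrimeSpectrum.localization_away_comap_range (Localization.Away h) h] at hp'
    exact hp')
  have hl' : l ≫ Spec.map (CommRingCat.ofHom a) = U.ι := IsOpenImmersion.lift_fac _ _ _
  have hS : NonAbH1.HasSectionOver (Red.bc w Y.X) U.ι :=
    ⟨pullback.lift (l ≫ s.left) U.ι (by rw [Category.assoc, hs', ← Category.assoc, hl']), pullback.lift_snd _ _ _⟩
  obtain ⟨σ, hσ⟩ := hl m ⟨Red.bc w Y.X, α, hα⟩ ⟨Ideal.span {h}, hh.finite_quotient, hS⟩
  refine ⟨Over.homMk (σ ≫ pullback.fst Y.X.hom w) ?_, Over.OverMorphism.ext ?_⟩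
  · show _ ≫ Y.X.hom ≫ aL R = _
    rw [Category.assoc, pullback.condition_assoc, ← Category.assoc,
      show σ ≫ pullback.snd Y.X.hom w = 𝟙 _ from hσ]
    exact (Category.id_comp _).trans (Over.w (om (locMap m)))
  · show (σ ≫ pullback.fst Y.X.hom w) ≫ Y.X.hom = w
    rw [Category.assoc, pullback.condition, ← Category.assoc,
      show σ ≫ pullback.snd Y.X.hom w = 𝟙 _ from hσ]
    exact Category.id_comp _

omit [GrpObj G] in
/-- Maps out of a basic open of the line. -/
theorem exists_liftAway {A P : Type u} [CommRing A] [CommRing P] [Algebra R A] [Algebra R P] (h : A)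
    (χ : A →ₐ[R] P) (hu : IsUnit (χ h)) :
    ∃ ψ : Localization.Away h →ₐ[R] P, ψ.comp (IsScalarTower.toAlgHom R A (Localization.Away h)) = χ := by
  have hy : ∀ y : Submonoid.powers h, IsUnit (χ (y : A)) := by
    rintro ⟨_, k, rfl⟩
    rw [map_pow]
    exact hu.pow k
  exact ⟨IsLocalization.liftAlgHom hy, AlgHom.ext fun p => IsLocalization.lift_eq hy p⟩

theorem Sec.away {P : Type u} [CommRing P] [Algebra R P] {f : R[X]}
    (h : Sec Y (IsScalarTower.toAlgHom R R[X] (Localization.Away f))) (φ : R[X] →ₐ[R] P) (hu : IsUnit (φ f)) :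
    Sec Y φ := by
  obtain ⟨ψ, hψ⟩ := exists_liftAway f φ hu
  exact h.map Y ψ hψ

/-- The exceptional equation becomes a unit away from its image. -/
theorem isUnit_locMap (m : Ideal R) [m.IsMaximal] (f : R[X]) :
    IsUnit (((IsScalarTower.toAlgHom R (Localization.AtPrime m)[X]
      (Localization.Away (f.map (algebraMap R (Localization.AtPrime m))))).comp (locMap m)) f) :=
  IsLocalization.Away.algebraMap_isUnit (S := Localization.Away (f.map (algebraMap R (Localization.AtPrime m))))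
    (f.map (algebraMap R (Localization.AtPrime m)))

end Groth.Agent.QuillenLib
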