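import Groth.Agent.SchTorsor.Basic
import Groth.Agent.FpqcDescLib.Basic

/-!
# Transports in a family of torsors

A bundle is an `A`-family of torsors, seen over the base.  A transport between two points of `A` is an
equivariant natural map between the fibres.  Transports glue Zariski locally, and over a constant point
they are described by twisted points of the group.
-/

universe u

open CategoryTheory MonoidalCategory CartesianMonoidalCategory MonObj GrpObj AlgebraicGeometry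

noncomputable section

set_option backward.isDefEq.respectTransparency false

namespace Groth.Agent.QuillenLib

variable {S : Scheme.{u}}

/-- A family of torsors. -/
structure Bun (G A : Over S) [GrpObj G] where
  X : Over S
  act : AlgGrp.Action G X
  p : X ⟶ A
  act_p : act.act ≫ p = snd G X ≫ p
  trans : ∀ (T : Over S) (ξ ζ : T ⟶ X), ξ ≫ p = ζ ≫ p → ∃ g : T ⟶ G, lift g ζ ≫ act.act = ξ
  free : ∀ (T : Over S) (g h : T ⟶ G) (ζ : T ⟶ X), lift g ζ ≫ act.act = lift h ζ ≫ act.act → g = h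

variable {G A : Over S} [GrpObj G] (B : Bun G A)

/-- The action on points. -/
def Bun.sm {T : Over S} (g : T ⟶ G) (ξ : T ⟶ B.X) : T ⟶ B.X := lift g ξ ≫ B.act.act

theorem Bun.sm_p {T : Over S} (g : T ⟶ G) (ξ : T ⟶ B.X) : B.sm g ξ ≫ B.p = ξ ≫ B.p := by
  rw [Bun.sm, Category.assoc, B.act_p, lift_snd_assoc]

theorem Bun.comp_sm {T T' : Over S} (u : T' ⟶ T) (g : T ⟶ G) (ξ : T ⟶ B.X) :
    u ≫ B.sm g ξ = B.sm (u ≫ g) (u ≫ ξ) := by
  rw [Bun.sm, Bun.sm, comp_lift_assoc]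

theorem Bun.sm_sm {T : Over S} (g h : T ⟶ G) (ξ : T ⟶ B.X) : B.sm g (B.sm h ξ) = B.sm (g * h) ξ :=
  (SchTorsor.act_assoc B.act g h ξ).symm

theorem Bun.one_sm {T : Over S} (ξ : T ⟶ B.X) : B.sm 1 ξ = ξ := SchTorsor.one_act_pt B.act ξ

/-- A transport from the fibre over `x` to the fibre over `y`. -/
structure Tra {T : Over S} (x y : T ⟶ A) where
  app : ∀ ⦃T' : Over S⦄ (w : T' ⟶ T) (ξ : T' ⟶ B.X), ξ ≫ B.p = w ≫ x → (T' ⟶ B.X)
  mem : ∀ ⦃T' : Over S⦄ (w : T' ⟶ T) (ξ : T' ⟶ B.X) (h : ξ ≫ B.p = w ≫ x), app w ξ h ≫ B.p = w ≫ y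
  nat : ∀ ⦃T' T'' : Over S⦄ (u : T'' ⟶ T') (w : T' ⟶ T) (ξ : T' ⟶ B.X) (h : ξ ≫ B.p = w ≫ x),
    u ≫ app w ξ h = app (u ≫ w) (u ≫ ξ) (by rw [Category.assoc, h, Category.assoc])
  equiv : ∀ ⦃T' : Over S⦄ (w : T' ⟶ T) (g : T' ⟶ G) (ξ : T' ⟶ B.X) (h : ξ ≫ B.p = w ≫ x),
    app w (B.sm g ξ) ((B.sm_p g ξ).trans h) = B.sm g (app w ξ h)

variable {B}

namespace Tra

variable {T T₁ : Over S} {x y z : T ⟶ A}

theorem app_congr (φ : Tra B x y) {T' : Over S} {w w' : T' ⟶ T} {ξ ξ' : T' ⟶ B.X} (hw : w = w') (hξ : ξ = ξ')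
    (h : ξ ≫ B.p = w ≫ x) (h' : ξ' ≫ B.p = w' ≫ x) : φ.app w ξ h = φ.app w' ξ' h' := by
  subst hw hξ; rfl

@[ext]
theorem ext {φ ψ : Tra B x y}
    (h : ∀ ⦃T' : Over S⦄ (w : T' ⟶ T) (ξ : T' ⟶ B.X) (h : ξ ≫ B.p = w ≫ x), φ.app w ξ h = ψ.app w ξ h) :
    φ = ψ := by
  obtain ⟨a, _, _, _⟩ := φ
  obtain ⟨b, _, _, _⟩ := ψ
  obtain rfl : a = b := by funext T' w ξ hh; exact h w ξ hh
  rfl

/-- The identity transport. -/
def id (x : T ⟶ A) : Tra B x x where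
  app _ _ ξ _ := ξ
  mem _ _ _ h := h
  nat _ _ _ _ _ _ := rfl
  equiv _ _ _ _ _ := rfl

/-- Composition of transports. -/
def comp (φ : Tra B x y) (ψ : Tra B y z) : Tra B x z where
  app _ w ξ h := ψ.app w (φ.app w ξ h) (φ.mem w ξ h)
  mem _ w ξ h := ψ.mem _ _ _
  nat _ _ u w ξ h := by
    rw [ψ.nat u w]
    exact ψ.app_congr rfl (φ.nat u w ξ h) _ _
  equiv _ w g ξ h := by
    rw [← ψ.equiv w g (φ.app w ξ h) (φ.mem w ξ h)]
    exact ψ.app_congr rfl (φ.equiv w g ξ h) _ _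

/-- Restriction of a transport. -/
def res (φ : Tra B x y) (v : T₁ ⟶ T) (x' y' : T₁ ⟶ A) (hx : v ≫ x = x') (hy : v ≫ y = y') : Tra B x' y' where
  app _ w ξ h := φ.app (w ≫ v) ξ (by rw [h, Category.assoc, hx])
  mem _ w ξ h := by rw [φ.mem, Category.assoc, hy]
  nat _ _ u w ξ h := by
    rw [φ.nat u (w ≫ v)]
    exact φ.app_congr (Category.assoc _ _ _).symm rfl _ _
  equiv _ w g ξ h := φ.equiv (w ≫ v) g ξ _

theorem res_id (v : T₁ ⟶ T) (x' : T₁ ⟶ A) (hx : v ≫ x = x') :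
    (Tra.id (B := B) x).res v x' x' hx hx = Tra.id x' := rfl

theorem res_comp (φ : Tra B x y) (ψ : Tra B y z) (v : T₁ ⟶ T) (x' y' z' : T₁ ⟶ A) (hx : v ≫ x = x')
    (hy : v ≫ y = y') (hz : v ≫ z = z') :
    (φ.comp ψ).res v x' z' hx hz = (φ.res v x' y' hx hy).comp (ψ.res v y' z' hy hz) := rfl

theorem res_res (φ : Tra B x y) {T₂ : Over S} (v : T₁ ⟶ T) (v' : T₂ ⟶ T₁) (x' y' : T₁ ⟶ A) (x'' y'' : T₂ ⟶ A)
    (hx : v ≫ x = x') (hy : v ≫ y = y') (hx' : v' ≫ x' = x'') (hy' : v' ≫ y' = y'') (v'' : T₂ ⟶ T)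
    (hv : v' ≫ v = v'') :
    (φ.res v x' y' hx hy).res v' x'' y'' hx' hy' =
      φ.res v'' x'' y'' (by rw [← hv, Category.assoc, hx, hx']) (by rw [← hv, Category.assoc, hy, hy']) := by
  refine Tra.ext fun T' w ξ h => ?_
  show φ.app ((w ≫ v') ≫ v) ξ _ = φ.app (w ≫ v'') ξ _
  exact φ.app_congr (by rw [Category.assoc, hv]) rfl _ _

theorem id_comp (φ : Tra B x y) : (Tra.id x).comp φ = φ := rfl

theorem comp_id (φ : Tra B x y) : φ.comp (Tra.id y) = φ := rfl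

theorem comp_assoc {w : T ⟶ A} (φ : Tra B x y) (ψ : Tra B y z) (χ : Tra B z w) :
    (φ.comp ψ).comp χ = φ.comp (ψ.comp χ) := rfl

end Tra

variable (B) in
/-- An invertible transport. -/
structure TIso {T : Over S} (x y : T ⟶ A) where
  hom : Tra B x y
  inv : Tra B y x
  hom_inv : hom.comp inv = Tra.id x
  inv_hom : inv.comp hom = Tra.id y

namespace TIso

variable {T T₁ : Over S} {x y z : T ⟶ A}

/-- The inverse. -/
def symm (φ : TIso B x y) : TIso B y x := ⟨φ.inv, φ.hom, φ.inv_hom, φ.hom_inv⟩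

/-- The composite. -/
def trans (φ : TIso B x y) (ψ : TIso B y z) : TIso B x z where
  hom := φ.hom.comp ψ.hom
  inv := ψ.inv.comp φ.inv
  hom_inv := by
    rw [Tra.comp_assoc, ← Tra.comp_assoc ψ.hom, ψ.hom_inv, Tra.id_comp, φ.hom_inv]
  inv_hom := by
    rw [Tra.comp_assoc, ← Tra.comp_assoc φ.inv, φ.inv_hom, Tra.id_comp, ψ.inv_hom]

/-- The restriction. -/
def res (φ : TIso B x y) (v : T₁ ⟶ T) (x' y' : T₁ ⟶ A) (hx : v ≫ x = x') (hy : v ≫ y = y') : TIso B x' y' where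
  hom := φ.hom.res v x' y' hx hy
  inv := φ.inv.res v y' x' hy hx
  hom_inv := by rw [← Tra.res_comp _ _ v x' y' x' hx hy hx, φ.hom_inv, Tra.res_id]
  inv_hom := by rw [← Tra.res_comp _ _ v y' x' y' hy hx hy, φ.inv_hom, Tra.res_id]

end TIso

section Glue

variable {T : Over S} {κ : Type u} {P : κ → Over S} (u : ∀ k, P k ⟶ T) [∀ k, IsOpenImmersion (u k).left]
  (hcov : ∀ t : T.left, ∃ k, t ∈ Set.range (u k).left) {x y : T ⟶ A}

include hcov in
/-- Morphisms are determined on the pieces over a cover. -/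
theorem hom_ext_cover {T' K : Over S} (w : T' ⟶ T) (ζ ζ' : T' ⟶ K)
    (h : ∀ k (W : Over S) (i : W ⟶ T') (j : W ⟶ P k), i ≫ w = j ≫ u k → i ≫ ζ = i ≫ ζ') : ζ = ζ' := by
  let 𝒰 : T'.left.OpenCover :=
    Scheme.Cover.mkOfCovers κ (fun k => Limits.pullback w.left (u k).left)
      (fun k => Limits.pullback.fst w.left (u k).left) (fun t => by
        obtain ⟨k, hk⟩ := hcov (w.left t)
        refine ⟨k, ?_⟩
        have : t ∈ Set.range (Limits.pullback.fst w.left (u k).left) := by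
          rw [Scheme.Pullback.range_fst]; exact hk
        exact this) (fun k => inferInstance)
  refine Over.OverMorphism.ext (Scheme.Cover.hom_ext 𝒰 _ _ fun k => ?_)
  let W : Over S := Over.mk (Limits.pullback.fst w.left (u k).left ≫ T'.hom)
  have hj : Limits.pullback.snd w.left (u k).left ≫ (P k).hom = W.hom := by
    show _ = Limits.pullback.fst w.left (u k).left ≫ T'.hom
    rw [← Over.w (u k), ← Limits.pullback.condition_assoc, Over.w w]
  exact congrArg CommaMorphism.left (h k W (Over.homMk (Limits.pullback.fst w.left (u k).left) rfl)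
    (Over.homMk _ hj) (Over.OverMorphism.ext Limits.pullback.condition))

variable (φ : ∀ k, Tra B (u k ≫ x) (u k ≫ y))

/-- The compatibility of transports on a cover. -/
def Agree : Prop :=
  ∀ k l (W : Over S) (j : W ⟶ P k) (j' : W ⟶ P l) (e : j ≫ u k = j' ≫ u l) (ξ : W ⟶ B.X)
    (h : ξ ≫ B.p = j ≫ u k ≫ x),
    (φ k).app j ξ h = (φ l).app j' ξ (by rw [h, reassoc_of% e])

variable {u φ}

include hcov in
theorem exists_glue_pt (hag : Agree u φ) {T' : Over S} (w : T' ⟶ T) (ξ : T' ⟶ B.X) (h : ξ ≫ B.p = w ≫ x) :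
    ∃ ζ : T' ⟶ B.X, ∀ k (W : Over S) (i : W ⟶ T') (j : W ⟶ P k) (e : i ≫ w = j ≫ u k),
      i ≫ ζ = (φ k).app j (i ≫ ξ) (by rw [Category.assoc, h, reassoc_of% e]) := by
  let W : κ → Over S := fun k => Over.mk (Limits.pullback.fst w.left (u k).left ≫ T'.hom)
  let i : ∀ k, W k ⟶ T' := fun k => Over.homMk (Limits.pullback.fst w.left (u k).left) rfl
  let j : ∀ k, W k ⟶ P k := fun k => Over.homMk (Limits.pullback.snd w.left (u k).left) (by
    show _ = Limits.pullback.fst w.left (u k).left ≫ T'.hom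
    rw [← Over.w (u k), ← Limits.pullback.condition_assoc, Over.w w])
  have e : ∀ k, i k ≫ w = j k ≫ u k := fun k => Over.OverMorphism.ext Limits.pullback.condition
  let v : ∀ k, W k ⟶ B.X := fun k => (φ k).app (j k) (i k ≫ ξ) (by rw [Category.assoc, h, reassoc_of% (e k)])
  have key : ∀ k l (W' : Over S) (a : W' ⟶ W k) (b : W' ⟶ P l), a ≫ j k ≫ u k = b ≫ u l →
      ∀ (hh : (a ≫ i k ≫ ξ) ≫ B.p = b ≫ u l ≫ x), a ≫ v k = (φ l).app b (a ≫ i k ≫ ξ) hh := by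
    intro k l W' a b hab hh
    rw [(φ k).nat a (j k)]
    exact hag k l W' (a ≫ j k) b (by rw [Category.assoc, hab]) _ _
  let 𝒰 : T'.left.OpenCover :=
    Scheme.Cover.mkOfCovers κ (fun k => Limits.pullback w.left (u k).left) (fun k => (i k).left) (fun t => by
        obtain ⟨k, hk⟩ := hcov (w.left t)
        refine ⟨k, ?_⟩
        have : t ∈ Set.range (Limits.pullback.fst w.left (u k).left) := by
          rw [Scheme.Pullback.range_fst]; exact hk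
        exact this) (fun k => inferInstanceAs (IsOpenImmersion (Limits.pullback.fst w.left (u k).left)))
  let ζ₀ : T'.left ⟶ B.X.left := Scheme.Cover.glueMorphisms 𝒰 (fun k => (v k).left) fun k l => by
    let W' : Over S := Over.mk (Limits.pullback.fst (i k).left (i l).left ≫ (W k).hom)
    let a : W' ⟶ W k := Over.homMk (Limits.pullback.fst (i k).left (i l).left) rfl
    let a' : W' ⟶ W l := Over.homMk (Limits.pullback.snd (i k).left (i l).left) (by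
      show _ = Limits.pullback.fst (i k).left (i l).left ≫ (W k).hom
      rw [← Over.w (i l), ← Over.w (i k), Limits.pullback.condition_assoc])
    have ha : a ≫ i k = a' ≫ i l := Over.OverMorphism.ext Limits.pullback.condition
    have h1 := key k l W' a (a' ≫ j l) (by rw [← e, reassoc_of% ha, e, Category.assoc])
      (by simp only [Category.assoc]; rw [h, reassoc_of% ha, reassoc_of% (e l)])
    have h2 : a ≫ v k = a' ≫ v l := by
      rw [h1, (φ l).nat a' (j l)]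
      exact (φ l).app_congr rfl (by rw [← Category.assoc, ha, Category.assoc]) _ _
    exact congrArg CommaMorphism.left h2
  have hζ : ∀ k, (i k).left ≫ ζ₀ = (v k).left := fun k => Scheme.Cover.ι_glueMorphisms 𝒰 _ _ k
  let ζ : T' ⟶ B.X := Over.homMk ζ₀ (Scheme.Cover.hom_ext 𝒰 _ _ fun k => by
    show (i k).left ≫ ζ₀ ≫ B.X.hom = (i k).left ≫ T'.hom
    rw [reassoc_of% (hζ k), Over.w (v k), Over.w (i k)])
  refine ⟨ζ, fun k W' i' j' e' => ?_⟩
  refine hom_ext_cover u hcov (i' ≫ w) _ _ fun l W'' i'' j'' e'' => ?_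
  have hfac : ∃ a : W'' ⟶ W l, a ≫ i l = i'' ≫ i' ∧ a ≫ j l = j'' :=
    ⟨Over.homMk (Limits.pullback.lift (i'' ≫ i').left j''.left (by
      rw [← Category.assoc] at e''
      exact congrArg CommaMorphism.left e'')) (by
        show _ ≫ Limits.pullback.fst w.left (u l).left ≫ T'.hom = W''.hom
        rw [Limits.pullback.lift_fst_assoc, Over.w]),
      Over.OverMorphism.ext (Limits.pullback.lift_fst _ _ _), Over.OverMorphism.ext (Limits.pullback.lift_snd _ _ _)⟩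
  obtain ⟨a, ha1, ha2⟩ := hfac
  have hv : i l ≫ ζ = v l := Over.OverMorphism.ext (hζ l)
  rw [← Category.assoc, ← ha1, Category.assoc, hv]
  have h1 := key l k W'' a (i'' ≫ j') (by rw [reassoc_of% ha2, ← e'', e', Category.assoc])
    (by simp only [Category.assoc]; rw [h, reassoc_of% ha1, reassoc_of% e'])
  rw [h1, (φ k).nat i'' j']
  exact (φ k).app_congr rfl (by rw [← Category.assoc, ha1, Category.assoc]) _ _

include hcov in
theorem exists_glue (hag : Agree u φ) : ∃ ψ : Tra B x y, ∀ k, ψ.res (u k) _ _ rfl rfl = φ k := by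
  choose ζ hζ using fun T' w ξ h => exists_glue_pt hcov hag (T' := T') w ξ h
  refine ⟨⟨fun T' w ξ h => ζ T' w ξ h, fun T' w ξ h => ?_, fun T' T'' v w ξ h => ?_, fun T' w g ξ h => ?_⟩, fun k => ?_⟩
  · refine hom_ext_cover u hcov w _ _ fun k W i j e => ?_
    rw [← Category.assoc, hζ T' w ξ h k W i j e, (φ k).mem, ← Category.assoc, ← e, Category.assoc]
  · refine hom_ext_cover u hcov (v ≫ w) _ _ fun k W i j e => ?_
    rw [hζ T'' (v ≫ w) _ _ k W i j e, ← Category.assoc,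
      hζ T' w ξ h k W (i ≫ v) j (by rw [Category.assoc, e])]
    exact (φ k).app_congr rfl (Category.assoc _ _ _) _ _
  · refine hom_ext_cover u hcov w _ _ fun k W i j e => ?_
    rw [hζ T' w _ _ k W i j e, B.comp_sm i g (ζ T' w ξ h), hζ T' w ξ h k W i j e, ← (φ k).equiv]
    exact (φ k).app_congr rfl (B.comp_sm _ _ _) _ _
  · refine Tra.ext fun T' w ξ h => ?_
    have h1 := hζ T' (w ≫ u k) ξ (by rw [h, Category.assoc]) k T' (𝟙 _) w (Category.id_comp _)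
    show ζ T' (w ≫ u k) ξ _ = _
    rw [Category.id_comp] at h1
    rw [h1]
    exact (φ k).app_congr rfl (Category.id_comp _) _ _

include hcov in
theorem ext_cover {ψ ψ' : Tra B x y} (h : ∀ k, ψ.res (u k) _ _ rfl rfl = ψ'.res (u k) _ _ rfl rfl) : ψ = ψ' := by
  refine Tra.ext fun T' w ξ hξ => ?_
  refine hom_ext_cover u hcov w _ _ fun k W i j e => ?_
  rw [ψ.nat, ψ'.nat]
  have h1 := congrArg (fun t => Tra.app t j (i ≫ ξ) (by rw [Category.assoc, hξ, reassoc_of% e])) (h k)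
  refine Eq.trans (ψ.app_congr e rfl _ _) (Eq.trans h1 (ψ'.app_congr e.symm rfl _ _))

include hcov in
/-- Invertible transports glue. -/
theorem exists_glue_iso (ψ : ∀ k, TIso B (u k ≫ x) (u k ≫ y)) (hag : Agree u fun k => (ψ k).hom) :
    Nonempty (TIso B x y) := by
  have hag' : Agree u fun k => (ψ k).inv := by
    intro k l W j j' e ζ h
    let ξ := (ψ k).inv.app j ζ h
    have hξ : ξ ≫ B.p = j ≫ u k ≫ x := (ψ k).inv.mem j ζ h
    have hback : (ψ k).hom.app j ξ hξ = ζ :=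
      congrArg (fun t => Tra.app t j ζ h) (ψ k).inv_hom
    have hζ : (ψ l).hom.app j' ξ (by rw [hξ, reassoc_of% e]) = ζ := (hag k l W j j' e ξ hξ).symm.trans hback
    show ξ = (ψ l).inv.app j' ζ _
    have h2 : ξ = (ψ l).inv.app j' ((ψ l).hom.app j' ξ (by rw [hξ, reassoc_of% e])) ((ψ l).hom.mem _ _ _) :=
      (congrArg (fun t => Tra.app t j' ξ (by rw [hξ, reassoc_of% e])) (ψ l).hom_inv).symm
    exact h2.trans ((ψ l).inv.app_congr rfl hζ _ _)
  obtain ⟨f, hf⟩ := exists_glue hcov hag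
  obtain ⟨g, hg⟩ := exists_glue hcov hag'
  refine ⟨⟨f, g, ?_, ?_⟩⟩
  · refine ext_cover hcov (u := u) fun k => ?_
    rw [Tra.res_comp f g (u k) (u k ≫ x) (u k ≫ y) (u k ≫ x) rfl rfl rfl, hf, hg, (ψ k).hom_inv, Tra.res_id]
  · refine ext_cover hcov (u := u) fun k => ?_
    rw [Tra.res_comp g f (u k) (u k ≫ y) (u k ≫ x) (u k ≫ y) rfl rfl rfl, hf, hg, (ψ k).inv_hom, Tra.res_id]

end Glue

section Twist

variable (B) {z : 𝟙_ (Over S) ⟶ A} {S' : Over S} (σ : S' ⟶ B.X)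

/-- A twisted point of the group over `T`. -/
structure HPt (T : Over S) where
  app : ∀ ⦃W : Over S⦄ (_ : W ⟶ T) (_ : W ⟶ S'), W ⟶ G
  nat : ∀ ⦃W W' : Over S⦄ (v : W' ⟶ W) (w : W ⟶ T) (b : W ⟶ S'), v ≫ app w b = app (v ≫ w) (v ≫ b)
  cocycle : ∀ ⦃W : Over S⦄ (w : W ⟶ T) (b₁ b₂ : W ⟶ S') (g : W ⟶ G), B.sm g (b₂ ≫ σ) = b₁ ≫ σ →
    app w b₁ * g = g * app w b₂

variable {B σ}

@[ext]
theorem HPt.ext {T : Over S} {H H' : HPt B σ T}
    (h : ∀ ⦃W : Over S⦄ (w : W ⟶ T) (b : W ⟶ S'), H.app w b = H'.app w b) : H = H' := by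
  obtain ⟨a, _, _⟩ := H
  obtain ⟨b, _, _⟩ := H'
  obtain rfl : a = b := by funext W w s; exact h w s
  rfl

variable {T : Over S}

instance : One (HPt B σ T) :=
  ⟨⟨fun _ _ _ => 1, fun _ _ v _ _ => MonObj.comp_one v, fun _ _ _ _ g _ => by simp⟩⟩

instance : Mul (HPt B σ T) :=
  ⟨fun H H' => ⟨fun _ w b => H.app w b * H'.app w b,
    fun _ _ v w b => by rw [MonObj.comp_mul, H.nat, H'.nat],
    fun _ w b₁ b₂ g hg => by
      rw [_root_.mul_assoc, H'.cocycle w b₁ b₂ g hg, ← _root_.mul_assoc, H.cocycle w b₁ b₂ g hg,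
        _root_.mul_assoc]⟩⟩

instance : Inv (HPt B σ T) :=
  ⟨fun H => ⟨fun _ w b => (H.app w b)⁻¹, fun _ _ v w b => by rw [GrpObj.comp_inv, H.nat],
    fun _ w b₁ b₂ g hg => by
      rw [inv_mul_eq_iff_eq_mul, ← _root_.mul_assoc, H.cocycle w b₁ b₂ g hg, _root_.mul_assoc, mul_inv_cancel,
        _root_.mul_one]⟩⟩

/-- Restriction of a twisted point. -/
def HPt.res (H : HPt B σ T) {T₁ : Over S} (v : T₁ ⟶ T) : HPt B σ T₁ where
  app _ w b := H.app (w ≫ v) b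
  nat _ _ v' w b := by rw [H.nat, Category.assoc]
  cocycle _ w b₁ b₂ g hg := H.cocycle _ b₁ b₂ g hg

variable (hσ : σ ≫ B.p = toUnit S' ≫ z) (hcv : FpqcDescLib.Covers S'.hom)

include hσ in
theorem sigma_p {W : Over S} (b : W ⟶ S') : (b ≫ σ) ≫ B.p = toUnit W ≫ z := by
  rw [Category.assoc, hσ, ← Category.assoc, toUnit_unique (b ≫ toUnit S') (toUnit W)]

include hcv in
theorem covers_fst (T' : Over S) : FpqcDescLib.Covers (fst T' S').left := by
  rw [Over.fst_left]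
  exact hcv.pullback T'.hom (Limits.pullback.fst T'.hom S'.hom) (Limits.pullback.snd T'.hom S'.hom)
    (CategoryTheory.IsPullback.of_hasPullback T'.hom S'.hom)

include hσ in
/-- The twisted point of a transport. -/
theorem exists_hpt (θ : Tra B (toUnit T ≫ z) (toUnit T ≫ z)) :
    ∃ H : HPt B σ T, ∀ ⦃W : Over S⦄ (w : W ⟶ T) (b : W ⟶ S') (h : (b ≫ σ) ≫ B.p = w ≫ toUnit T ≫ z),
      θ.app w (b ≫ σ) h = B.sm (H.app w b) (b ≫ σ) := by
  have hm : ∀ ⦃W : Over S⦄ (w : W ⟶ T) (b : W ⟶ S'), (b ≫ σ) ≫ B.p = w ≫ toUnit T ≫ z := fun W w b => by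
    rw [sigma_p hσ, ← Category.assoc, toUnit_unique (w ≫ toUnit T) (toUnit W)]
  choose a ha using fun (W : Over S) (w : W ⟶ T) (b : W ⟶ S') =>
    B.trans W (θ.app w (b ≫ σ) (hm w b)) (b ≫ σ) (by rw [θ.mem, hm w b])
  refine ⟨⟨fun W w b => a W w b, fun W W' v w b => ?_, fun W w b₁ b₂ g hg => ?_⟩, fun W w b h => (ha W w b).symm⟩
  · refine B.free _ _ _ ((v ≫ b) ≫ σ) ?_
    rw [ha W' (v ≫ w) (v ≫ b)]
    show B.sm (v ≫ a W w b) ((v ≫ b) ≫ σ) = _
    refine (congrArg (B.sm _) (Category.assoc _ _ _)).trans ?_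
    rw [← B.comp_sm, show B.sm (a W w b) (b ≫ σ) = _ from ha W w b, θ.nat]
    exact θ.app_congr rfl (Category.assoc _ _ _).symm _ _
  · refine B.free _ _ _ (b₂ ≫ σ) ?_
    show B.sm _ (b₂ ≫ σ) = B.sm _ (b₂ ≫ σ)
    rw [← B.sm_sm, ← B.sm_sm, hg, show B.sm (a W w b₁) (b₁ ≫ σ) = _ from ha W w b₁,
      show B.sm (a W w b₂) (b₂ ≫ σ) = _ from ha W w b₂, ← θ.equiv]
    exact θ.app_congr rfl hg.symm _ _

include hσ hcv in
/-- The transport of a twisted point. -/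
theorem exists_tra (H : HPt B σ T) :
    ∃ θ : Tra B (toUnit T ≫ z) (toUnit T ≫ z),
      ∀ ⦃W : Over S⦄ (w : W ⟶ T) (b : W ⟶ S') (k : W ⟶ G) (h : B.sm k (b ≫ σ) ≫ B.p = w ≫ toUnit T ≫ z),
        θ.app w (B.sm k (b ≫ σ)) h = B.sm (k * H.app w b) (b ≫ σ) := by
  have key : ∀ (T' : Over S) (w : T' ⟶ T) (ξ : T' ⟶ B.X) (_ : ξ ≫ B.p = w ≫ toUnit T ≫ z),
      ∃ ζ : T' ⟶ B.X, ∀ (W : Over S) (i : W ⟶ T') (b : W ⟶ S') (k : W ⟶ G), B.sm k (b ≫ σ) = i ≫ ξ →
        i ≫ ζ = B.sm (k * H.app (i ≫ w) b) (b ≫ σ) := by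
    intro T' w ξ h
    obtain ⟨k₀, hk₀⟩ := B.trans (T' ⊗ S') (fst T' S' ≫ ξ) (snd T' S' ≫ σ) (by
      rw [sigma_p hσ, Category.assoc, h, ← Category.assoc, ← Category.assoc, toUnit_unique (_ ≫ toUnit T) (toUnit _)])
    let f : T' ⊗ S' ⟶ B.X := B.sm (k₀ * H.app (fst T' S' ≫ w) (snd T' S')) (snd T' S' ≫ σ)
    have hf : ∀ (W : Over S) (a : W ⟶ T' ⊗ S') (k : W ⟶ G) (b : W ⟶ S'),
        B.sm k (b ≫ σ) = a ≫ fst T' S' ≫ ξ →
          a ≫ f = B.sm (k * H.app (a ≫ fst T' S' ≫ w) b) (b ≫ σ) := by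
      intro W a k b hk
      have hka : B.sm (a ≫ k₀) ((a ≫ snd T' S') ≫ σ) = a ≫ fst T' S' ≫ ξ := by
        rw [Category.assoc, ← B.comp_sm, show B.sm k₀ (snd T' S' ≫ σ) = _ from hk₀]
      obtain ⟨c, hc⟩ := B.trans W ((a ≫ snd T' S') ≫ σ) (b ≫ σ) (by rw [sigma_p hσ, sigma_p hσ])
      change B.sm c (b ≫ σ) = (a ≫ snd T' S') ≫ σ at hc
      have hk' : (a ≫ k₀) * c = k := by
        refine B.free _ _ _ (b ≫ σ) ?_
        show B.sm _ (b ≫ σ) = B.sm _ (b ≫ σ)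
        rw [hk, ← B.sm_sm, hc, hka]
      rw [show a ≫ f = B.sm (a ≫ (k₀ * H.app (fst T' S' ≫ w) (snd T' S'))) (a ≫ snd T' S' ≫ σ) from B.comp_sm _ _ _,
        MonObj.comp_mul, H.nat, ← Category.assoc a (snd T' S'), ← hc, B.sm_sm, _root_.mul_assoc,
        H.cocycle _ (a ≫ snd T' S') b c hc, ← _root_.mul_assoc, hk']
    obtain ⟨ζ, hζ, -⟩ := (covers_fst (T' := T') hcv).over_desc f fun W a a' haa => by
      obtain ⟨k, hk⟩ : ∃ k : W ⟶ G, B.sm k ((a ≫ snd T' S') ≫ σ) = a ≫ fst T' S' ≫ ξ :=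
        ⟨a ≫ k₀, by rw [Category.assoc, ← B.comp_sm, show B.sm k₀ (snd T' S' ≫ σ) = _ from hk₀]⟩
      rw [hf W a k _ hk, hf W a' k (a ≫ snd T' S') (by rw [hk, reassoc_of% haa]), reassoc_of% haa]
    refine ⟨ζ, fun W i b k hk => ?_⟩
    have h1 := hf W (lift i b) k b (by rw [lift_fst_assoc, hk])
    rw [← hζ, lift_fst_assoc, lift_fst_assoc] at h1
    exact h1
  choose ζ hζ using key
  have huniq : ∀ (T' : Over S) (w : T' ⟶ T) (ξ : T' ⟶ B.X) (_ : ξ ≫ B.p = w ≫ toUnit T ≫ z) (ζ₁ ζ₂ : T' ⟶ B.X),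
      (∀ (W : Over S) (i : W ⟶ T') (b : W ⟶ S') (k : W ⟶ G), B.sm k (b ≫ σ) = i ≫ ξ → i ≫ ζ₁ = i ≫ ζ₂) →
        ζ₁ = ζ₂ := by
    intro T' w ξ h ζ₁ ζ₂ he
    obtain ⟨k₀, hk₀⟩ := B.trans (T' ⊗ S') (fst T' S' ≫ ξ) (snd T' S' ≫ σ) (by
      rw [sigma_p hσ, Category.assoc, h, ← Category.assoc, ← Category.assoc, toUnit_unique (_ ≫ toUnit T) (toUnit _)])
    haveI := (covers_fst (T' := T') hcv).over_epi
    exact (cancel_epi (fst T' S')).mp (he _ _ (snd T' S') k₀ hk₀)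
  refine ⟨⟨fun T' w ξ h => ζ T' w ξ h, fun T' w ξ h => ?_, fun T' T'' v w ξ h => ?_, fun T' w g ξ h => ?_⟩, ?_⟩
  · haveI := (covers_fst (T' := T') hcv).over_epi
    obtain ⟨k₀, hk₀⟩ := B.trans (T' ⊗ S') (fst T' S' ≫ ξ) (snd T' S' ≫ σ) (by
      rw [sigma_p hσ, Category.assoc, h, ← Category.assoc, ← Category.assoc, toUnit_unique (_ ≫ toUnit T) (toUnit _)])
    rw [← cancel_epi (fst T' S'), ← Category.assoc, hζ T' w ξ h _ _ (snd T' S') k₀ hk₀, B.sm_p, sigma_p hσ,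
      ← Category.assoc w, ← Category.assoc, toUnit_unique (_ ≫ w ≫ toUnit T) (toUnit _)]
  · refine huniq T'' (v ≫ w) (v ≫ ξ) (by rw [Category.assoc, h, Category.assoc]) _ _ fun W i b k hk => ?_
    rw [hζ T'' (v ≫ w) (v ≫ ξ) _ W i b k hk, ← Category.assoc,
      hζ T' w ξ h W (i ≫ v) b k (by rw [hk, Category.assoc]), Category.assoc]
  · refine huniq T' w (B.sm g ξ) ((B.sm_p g ξ).trans h) _ _ fun W i b k hk => ?_
    rw [hζ T' w _ _ W i b k hk, B.comp_sm,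
      hζ T' w ξ h W i b ((i ≫ g)⁻¹ * k) (by rw [← B.sm_sm, hk, B.comp_sm, B.sm_sm, inv_mul_cancel, B.one_sm]),
      B.sm_sm, ← _root_.mul_assoc, mul_inv_cancel_left]
  · intro W w b k h
    show ζ W w (B.sm k (b ≫ σ)) h = _
    have := hζ W w _ h W (𝟙 W) b k (Category.id_comp _).symm
    rwa [Category.id_comp, Category.id_comp] at this

include hσ hcv in
/-- Transports over a constant point are determined on the trivialisation. -/
theorem tra_ext {θ θ' : Tra B (toUnit T ≫ z) (toUnit T ≫ z)}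
    (h : ∀ ⦃W : Over S⦄ (w : W ⟶ T) (b : W ⟶ S') (hh : (b ≫ σ) ≫ B.p = w ≫ toUnit T ≫ z),
      θ.app w (b ≫ σ) hh = θ'.app w (b ≫ σ) hh) : θ = θ' := by
  refine Tra.ext fun T' w ξ hξ => ?_
  haveI := (covers_fst (T' := T') hcv).over_epi
  have hb : (snd T' S' ≫ σ) ≫ B.p = (fst T' S' ≫ w) ≫ toUnit T ≫ z := by
    rw [sigma_p hσ, ← Category.assoc _ (toUnit T), toUnit_unique (_ ≫ toUnit T) (toUnit _)]
  obtain ⟨k₀, hk₀⟩ := B.trans (T' ⊗ S') (fst T' S' ≫ ξ) (snd T' S' ≫ σ) (by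
    rw [hb, Category.assoc, hξ, Category.assoc])
  change B.sm k₀ (snd T' S' ≫ σ) = fst T' S' ≫ ξ at hk₀
  rw [← cancel_epi (fst T' S'), θ.nat, θ'.nat, θ.app_congr rfl hk₀.symm _ ((B.sm_p _ _).trans hb),
    θ'.app_congr rfl hk₀.symm _ ((B.sm_p _ _).trans hb), θ.equiv _ k₀ _ hb, θ'.equiv _ k₀ _ hb, h]

end Twist

end Groth.Agent.QuillenLib
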